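import Cfsg.Agent.Lib.CoTypeB85.Frame
import Cfsg.Agent.Lib.JankoTwoModel.Uniqueness
import Cfsg.Agent.Lib.JankoTwoType.Adapter

/-!
An image of `K` that is the full centraliser of the image of `z` gives the Hall–Janko group
(written by helper85).
-/

set_option autoImplicit false
set_option linter.unusedSectionVars false
set_option synthInstance.maxSize 1000
set_option synthInstance.maxHeartbeats 200000

namespace Cfsg.Agent.Lib.CoTypeB85

open Co1Type47

theorem inF_nondeg : ∀ x : V8, InF x → (∀ i, bV x (sF i) = 0) → x = 0 := by decide +kernel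

theorem f8_sM_ne : f8 (emb (sM 0)) ≠ emb (sM 0) := by decide

theorem typed_facts : InF (emb (repV 1)) ∧ InF (emb (repA 1)) := by decide

namespace Frame

variable {G : Type*} [Group G] [Finite G] {z s f : G} {Qf : G → Subgroup G} (F : Frame z s f Qf)
include F

theorem s_mem_Qfix : s ∈ F.conf.Qfix := F.conf.mem_Qfix.2 ⟨F.P.s_mem, F.hfs.symm⟩

theorem z_mem_Qfix : z ∈ F.conf.Qfix := F.conf.mem_Qfix.2 ⟨F.P.gz.x_mem, F.hfz.symm⟩

theorem f_notMem_K : f ∉ F.conf.K := fun h =>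
  f8_sM_ne ((F.hact _).symm.trans ((F.conf.mem_K.1 h).2.2 _ (sM_facts 0).1))

theorem pow_eq_one_of_mem_K {n : ℕ} (h : f ^ n ∈ F.conf.K) : f ^ n = 1 := by
  by_contra hne
  have h5 : ¬ 5 ∣ n := fun ⟨k, hk⟩ => hne (by rw [hk, pow_mul, F.hf5, one_pow])
  refine F.f_notMem_K ?_
  obtain ⟨m, hm⟩ := exists_pow_eq_self_of_coprime (x := f) (n := n) (by
    rw [F.conf.orderOf_f]
    exact ((Nat.Prime.coprime_iff_not_dvd (by norm_num)).2 h5).symm)
  have h' := pow_mem h m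
  rwa [hm] at h'

/-- An involution of `K` that is not conjugate to `z`. -/
theorem exists_other : ∃ x ∈ F.conf.K, x * x = 1 ∧ x ≠ 1 ∧ ¬ IsConj z x := by
  obtain ⟨r1, r2, r3, r4, r5, r6, -⟩ := rep_facts 1
  have : Fact (Nat.Prime 5) := ⟨by norm_num⟩
  let R : Subgroup G := Qf z ⊓ Qf s
  have hR : ¬ 5 ∣ Nat.card R := by
    intro h
    have hd := h.trans (Subgroup.card_dvd_of_le (inf_le_left : R ≤ Qf z))
    rw [F.P.D.card] at hd
    norm_num at hd
  set b₀ := F.P.lift (repA 1) with hb₀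
  have hb0 := F.P.lift_mem (repA 1)
  have hbz0 := F.P.lift_comm (repA 1)
  have hfi : f⁻¹ * z = z * f⁻¹ := (Commute.inv_left F.hfz :)
  have hc1 : f * b₀ * f⁻¹ ∈ Qf s := F.P.gs.norm f F.hfs b₀ hb0
  have hc2 : f * b₀ * f⁻¹ * z = z * (f * b₀ * f⁻¹) :=
    (Commute.mul_left (Commute.mul_left F.hfz hbz0) hfi :)
  have hP : InP z s (f * b₀ * f⁻¹ * b₀⁻¹) := by
    refine F.P.mem_of_alpha_eq_zero (mul_mem hc1 (inv_mem hb0))
      (Commute.mul_left hc2 (Commute.inv_left hbz0) :) ?_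
    rw [F.P.alpha_mul hc1 hc2 (inv_mem hb0) (Commute.inv_left hbz0 :), F.P.alpha_inv hb0 hbz0,
      F.P.alpha_conj hb0 hbz0 F.hfz F.hfs, F.P.alpha_lift, F.hact,
      show (f8 (emb (repA 1))).2.2 = repA 1 from f6_T.1, Co1Type47.add_self_w]
  have hinR : ∀ {d : G}, InP z s d → d ∈ R := by
    rintro d (rfl | rfl | rfl | rfl)
    · exact one_mem _
    · exact Subgroup.mem_inf.2 ⟨F.P.gz.x_mem, F.P.z_mem⟩
    · exact Subgroup.mem_inf.2 ⟨F.P.s_mem, F.P.gs.x_mem⟩
    · exact Subgroup.mem_inf.2 ⟨mul_mem F.P.s_mem F.P.gz.x_mem, mul_mem F.P.gs.x_mem F.P.z_mem⟩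
  obtain ⟨r, hr, e⟩ := exists_coset_fixed (p := 5) (n := 1) R f f b₀
    (fun r hr => Subgroup.mem_inf.2 ⟨F.P.gz.norm f F.hfz r (Subgroup.mem_inf.1 hr).1,
      F.P.gs.norm f F.hfs r (Subgroup.mem_inf.1 hr).2⟩) (hinR hP)
    (by rw [pow_one]; exact F.hf5) (by rw [pow_one]; exact F.hf5) hR
  obtain ⟨hr1, hr2⟩ := Subgroup.mem_inf.1 hr
  have hrz := F.P.gz.le_cent r hr1
  set b := r * b₀
  have hb : b ∈ Qf s := mul_mem hr2 hb0
  have hbz : b * z = z * b := (Commute.mul_left hrz hbz0 :)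
  have ha : F.P.alpha b = repA 1 := by
    rw [F.P.alpha_mul hr2 hrz hb0 hbz0, F.P.alpha_eq_zero (F.P.inP_of_both hr1 hr2), zero_add,
      F.P.alpha_lift]
  obtain ⟨q, hq, hqv⟩ := F.P.D.phi_surj (emb (repV 1))
  have hqs : q * s = s * q := (F.P.commute_s hq).2 (by rw [hqv]; rfl)
  have hqf : q * f = f * q := (F.conf.comm_iff hq).2 (by
    rw [show F.conf.D.phi q = _ from hqv]; exact typed_facts.1)
  have hv : F.P.wPart q = repV 1 := by rw [Pair.wPart, hqv]; rfl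
  have hTy : F.P.Typed 1 (b * q) := ⟨b, q, hb, hbz, hq, hqs, rfl, by rwa [ha], by rwa [hv],
    by rw [ha, hv]; exact r3, by rwa [ha], by rwa [hv], by rwa [ha, hv]⟩
  have hx2 : b * q * (b * q) = 1 := by
    rw [F.P.sq_parts hb hbz hq hqs, ha, hv, r4, r5, bW_comm, r6,
      (by decide : ∀ r : ZMod 2, r + r = 0), bpow_zero, bpow_zero, one_mul]
  have hx1 : b * q ≠ 1 := fun e => r1 (by
    have : b ∈ Qf z := by rw [eq_inv_of_mul_eq_one_left e]; exact inv_mem hq
    rw [← ha, Pair.alpha, F.P.D.act_of_mem F.P.gz this]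
    rfl)
  have hxz := (F.P.parts_commute hb hbz hq hqs).1
  have hxf : b * q * f = f * (b * q) := (Commute.mul_left e.symm hqf :)
  obtain ⟨n, hn⟩ := F.conf.exists_pow_mul hxz hxf
  have h2 : f ^ (2 * n) ∈ F.conf.K := by
    have := mul_mem hn hn
    rwa [show f ^ n * (b * q) * (f ^ n * (b * q)) = f ^ (2 * n) by
      rw [mul_assoc, ← mul_assoc (b * q), (Commute.pow_right hxf n).eq, mul_assoc, hx2, mul_one,
        two_mul, pow_add]] at this
  have hn1 : f ^ n = 1 := by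
    have h6 : f ^ (6 * n) = 1 := by
      rw [show 6 * n = 2 * n * 3 by ring, pow_mul, F.pow_eq_one_of_mem_K h2, one_pow]
    rw [show 6 * n = 5 * n + n by ring, pow_add, pow_mul, F.hf5, one_pow, one_mul] at h6
    exact h6
  rw [hn1, one_mul] at hn
  exact ⟨b * q, hn, hx2, hx1, CoType29.not_isConj_typed F.H F.P hTy⟩

/-- The recognition of the images of `K`. -/
theorem isoJ2_of_image {M : Type*} [Group M] [Finite M] (φ : ↥F.conf.K →* M)
    (hinj : Function.Injective φ)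
    (hC : ∀ x : M, x * φ ⟨z, F.conf.Qfix_le F.z_mem_Qfix⟩
      = φ ⟨z, F.conf.Qfix_le F.z_mem_Qfix⟩ * x → x ∈ φ.range)
    (hs : IsConj (φ ⟨z, F.conf.Qfix_le F.z_mem_Qfix⟩) (φ ⟨s, F.conf.Qfix_le F.s_mem_Qfix⟩))
    (hcl : ∀ k : ↥F.conf.K, IsConj (φ ⟨z, F.conf.Qfix_le F.z_mem_Qfix⟩) (φ k) → IsConj z (k : G)) :
    Cfsg.Spor.IsoJ2 M := by
  classical
  have : Fact (Nat.Prime 5) := ⟨by norm_num⟩
  set zK : ↥F.conf.K := ⟨z, F.conf.Qfix_le F.z_mem_Qfix⟩ with hzK
  set sK : ↥F.conf.K := ⟨s, F.conf.Qfix_le F.s_mem_Qfix⟩ with hsK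
  have hcz : ∀ k : ↥F.conf.K, k * zK = zK * k := fun k => Subtype.ext (F.conf.mem_K.1 k.2).1
  obtain ⟨fK, hfK⟩ := exists_prime_orderOf_dvd_card' (G := ↥F.conf.K) 5
    (by rw [F.conf.card_K]; norm_num)
  let Q' : Subgroup M := (F.conf.Qfix.subgroupOf F.conf.K).map φ
  have hQ' : ∀ {x : M}, x ∈ Q' → ∃ q : ↥F.conf.K, (q : G) ∈ F.conf.Qfix ∧ φ q = x := fun hx => by
    obtain ⟨q, hq, rfl⟩ := hx
    exact ⟨q, hq, rfl⟩
  have hQ : ∀ {q : ↥F.conf.K}, (q : G) ∈ F.conf.Qfix → (q : G) ∈ Qf z := fun h =>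
    (F.conf.mem_Qfix.1 h).1
  have hzord : orderOf (φ zK) = 2 := by
    rw [orderOf_injective φ hinj]
    have : Fact (Nat.Prime 2) := ⟨Nat.prime_two⟩
    exact orderOf_eq_prime (Subtype.ext (by simpa [pow_two] using F.P.zz))
      (fun e => F.P.gz.x_ne (congrArg Subtype.val e))
  let P : JankoTwoType.Pre M := {
    z := φ zK
    Q := Q'
    hz := hzord
    hzQ := ⟨zK, F.z_mem_Qfix, rfl⟩
    le := fun x hx => by
      obtain ⟨q, -, rfl⟩ := hQ' hx
      exact (map_mul φ q zK).symm.trans ((congrArg φ (hcz q)).trans (map_mul φ zK q))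
    norm := fun x hx y hy => by
      obtain ⟨k, rfl⟩ := hC x hx
      obtain ⟨q, hq, rfl⟩ := hQ' hy
      refine ⟨k * q * k⁻¹, ?_, by simp⟩
      obtain ⟨h1, h2⟩ := F.conf.mem_Qfix.1 hq
      obtain ⟨k1, k2, -⟩ := F.conf.mem_K.1 k.2
      exact F.conf.mem_Qfix.2 ⟨F.P.gz.norm _ k1 _ h1,
        (Commute.mul_left (Commute.mul_left k2 h2) (Commute.inv_left k2) :)⟩
    card := by
      rw [Subgroup.card_map_of_injective hinj,
        Nat.card_congr (Subgroup.subgroupOfEquivOfLe F.conf.Qfix_le).toEquiv, F.conf.card_Qfix]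
    center := fun x hx hall => by
      obtain ⟨q, hq, rfl⟩ := hQ' hx
      have h0 : F.P.D.phi (q : G) = 0 := by
        refine inF_nondeg _ ((F.conf.comm_iff (hQ hq)).1 (F.conf.mem_Qfix.1 hq).2) fun i => ?_
        obtain ⟨p, hp, hpi⟩ := F.P.D.phi_surj (sF i)
        have hpF : p ∈ F.conf.Qfix := F.conf.mem_Qfix.2 ⟨hp, (F.conf.comm_iff hp).2 (by
          rw [show F.conf.D.phi p = _ from hpi]; exact (sF_facts i).1)⟩
        rw [← hpi, ← F.P.D.comm_iff _ (hQ hq) p hp]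
        have e := hall (φ ⟨p, F.conf.Qfix_le hpF⟩) ⟨_, hpF, rfl⟩
        exact congrArg Subtype.val (hinj ((map_mul φ _ _).trans (e.eq.trans (map_mul φ _ _).symm)))
      rcases (F.P.D.phi_eq_zero _ (hQ hq)).1 h0 with e | e
      · exact Or.inl ((congrArg φ (Subtype.ext e : q = 1)).trans (map_one φ))
      · exact Or.inr (congrArg φ (Subtype.ext e : q = zK))
    sq := fun x hx => by
      obtain ⟨q, hq, rfl⟩ := hQ' hx
      rw [← map_mul]
      rcases F.P.gz.sq_cases (hQ hq) with e | e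
      · exact Or.inl ((congrArg φ (Subtype.ext e : q * q = 1)).trans (map_one φ))
      · exact Or.inr (congrArg φ (Subtype.ext e : q * q = zK))
    comm := fun x hx y hy => by
      obtain ⟨a, ha, rfl⟩ := hQ' hx
      obtain ⟨b, hb, rfl⟩ := hQ' hy
      simp only [← map_mul]
      rcases F.P.gz.comm _ (hQ ha) _ (hQ hb) with e | e
      · exact Or.inl (congrArg φ (Subtype.ext (mul_inv_eq_iff_eq_mul.1 e)))
      · refine Or.inr (congrArg φ (Subtype.ext ?_))
        have e' := mul_inv_eq_iff_eq_mul.1 e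
        show (a : G) * b = b * a * z
        rw [e', mul_assoc, mul_assoc, F.P.gz.le_cent _ (hQ ha)]
    self := fun x hx hall => by
      obtain ⟨k, rfl⟩ := hC x hx
      have hk : k ∈ F.conf.pi.ker := by
        refine MonoidHom.mem_ker.2 (Equiv.ext fun i => sF_inj _ _ ?_)
        obtain ⟨p, hp, hpi⟩ := F.P.D.phi_surj (sF i)
        have hpF : p ∈ F.conf.Qfix := F.conf.mem_Qfix.2 ⟨hp, (F.conf.comm_iff hp).2 (by
          rw [show F.conf.D.phi p = _ from hpi]; exact (sF_facts i).1)⟩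
        have hcomm : k * ⟨p, F.conf.Qfix_le hpF⟩ = ⟨p, F.conf.Qfix_le hpF⟩ * k :=
          hinj (by rw [map_mul, map_mul]; exact (hall _ ⟨_, hpF, rfl⟩).eq)
        have hk1 := (F.conf.mem_K.1 k.2).1
        rw [F.conf.pi_spec, show F.conf.D = F.P.D from rfl, ← hpi, ← F.P.D.act_phi _ hk1 p hp,
          show (k : G) * p = p * k from congrArg Subtype.val hcomm, mul_inv_cancel_right]
        exact hpi
      rw [F.conf.ker_pi] at hk
      exact ⟨k, hk, rfl⟩
    u0 := φ sK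
    hu0 := ⟨sK, F.s_mem_Qfix, rfl⟩
    hu0z := fun e => F.P.z_ne_s (congrArg Subtype.val (hinj e)).symm
    hu0i := by
      rw [← map_mul]
      exact (congrArg φ (Subtype.ext F.P.ss : sK * sK = 1)).trans (map_one φ)
    hu01 := fun e => F.P.gs.x_ne (congrArg Subtype.val (hinj (e.trans (map_one φ).symm)))
    f := φ fK
    hf := by rw [orderOf_injective φ hinj, hfK]
    hfz := (map_mul φ fK zK).symm.trans ((congrArg φ (hcz fK)).trans (map_mul φ zK fK)) }
  have hCz : Nat.card P.Cz = 1920 := by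
    rw [← F.conf.card_K]
    refine ((Nat.card_congr (MonoidHom.ofInjective hinj).toEquiv).trans
      (Nat.card_congr (Equiv.subtypeEquivRight fun x => ?_))).symm
    rw [P.mem_Cz]
    constructor
    · rintro ⟨k, rfl⟩
      exact (map_mul φ k zK).symm.trans ((congrArg φ (hcz k)).trans (map_mul φ zK k))
    · exact hC x
  obtain ⟨x, hxK, hx2, hx1, hxz⟩ := F.exists_other
  refine JankoTwoModel.isoJ2_of_hyp
    { toPre := P, card_C := hCz, hu0c := hs, hcl := ⟨φ zK, φ ⟨x, hxK⟩, hzord, ?_, fun h => hxz (hcl _ h)⟩ }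
  rw [orderOf_injective φ hinj]
  have : Fact (Nat.Prime 2) := ⟨Nat.prime_two⟩
  exact orderOf_eq_prime (Subtype.ext (by simpa [pow_two] using hx2))
    (fun e => hx1 (congrArg Subtype.val e))

end Frame

end Cfsg.Agent.Lib.CoTypeB85
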