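import Cfsg.Agent.Lib.CoTypeB85.Centre
import Cfsg.Agent.Lib.CoTypeB85.Recognition
import Cfsg.Agent.Lib.Components.Basic
import Cfsg.Agent.Lib.KBalance.Sections

/-!
`C(f) = ⟨f⟩ × L` with `L` the Hall–Janko group and `C(L)` alternating of degree 5
(written by helper85).
-/

set_option autoImplicit false
set_option linter.unusedSectionVars false
set_option synthInstance.maxSize 1000
set_option synthInstance.maxHeartbeats 200000

namespace Cfsg.Agent.Lib.CoTypeB85

open Co1Type47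
open scoped commutatorElement

theorem perp_inF : ∀ v : V8, (∀ i, bV v (sF i) = 0) → v = emb v.2.2 ∧ InM v.2.2 := by
  decide +kernel

theorem bV_sM_sF : ∀ i j : Fin 5, bV (emb (sM i)) (sF j) = 0 := by decide +kernel

theorem a8_a8 : ∀ v : V8, a8 (a8 (a8 v)) = v := by decide +kernel

theorem a8_not_comm : a8 (f8 (emb (sM 2))) ≠ f8 (a8 (emb (sM 2))) := by decide +kernel

theorem a8_sM : ∀ i : Fin 5, a8 (emb (sM i)) = emb (sM (![1, 2, 0, 3, 4] i)) := by decide +kernel

/-- The conjugates of the basic 3-cycle and their inverses. -/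
def cyc5 : Fin 11 → Equiv.Perm (Fin 5) :=
  ![1, Equiv.swap 0 1 * Equiv.swap 1 2, Equiv.swap 1 2 * Equiv.swap 2 3,
    Equiv.swap 2 3 * Equiv.swap 3 4, Equiv.swap 3 4 * Equiv.swap 4 0, Equiv.swap 4 0 * Equiv.swap 0 1,
    Equiv.swap 1 2 * Equiv.swap 0 1, Equiv.swap 2 3 * Equiv.swap 1 2,
    Equiv.swap 3 4 * Equiv.swap 2 3, Equiv.swap 4 0 * Equiv.swap 3 4, Equiv.swap 0 1 * Equiv.swap 4 0]

theorem three_cycle_words : ∀ σ : Equiv.Perm (Fin 5), σ ^ 3 = 1 →
    ∃ i j : Fin 11, σ = cyc5 i * cyc5 j := by decide +kernel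

theorem cyc5_eq (c a : Equiv.Perm (Fin 5)) (hc : ∀ i, c i = i + 1)
    (ha : ∀ i, a i = ![1, 2, 0, 3, 4] i) :
    ∀ i : Fin 11, cyc5 i ∈ Subgroup.closure ({c, a} : Set (Equiv.Perm (Fin 5))) := by
  have ec : c = Equiv.addRight 1 := Equiv.ext hc
  have ea : a = Equiv.swap 0 1 * Equiv.swap 1 2 := Equiv.ext fun i => by
    rw [ha]; revert i; decide
  set S := Subgroup.closure ({c, a} : Set (Equiv.Perm (Fin 5)))
  have mc : c ∈ S := Subgroup.subset_closure (Set.mem_insert _ _)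
  have ma : a ∈ S := Subgroup.subset_closure (Set.mem_insert_of_mem _ rfl)
  have hk : ∀ k : ℕ, c ^ k * a * (c ^ k)⁻¹ ∈ S := fun k =>
    mul_mem (mul_mem (pow_mem mc k) ma) (inv_mem (pow_mem mc k))
  have h : ∀ i : Fin 11, cyc5 i = 1 ∨ ∃ k : Fin 5, cyc5 i = c ^ k.val * a * (c ^ k.val)⁻¹ ∨
      cyc5 i = (c ^ k.val * a * (c ^ k.val)⁻¹)⁻¹ := by
    subst ec; subst ea; decide +kernel
  intro i
  rcases h i with e | ⟨k, e | e⟩ <;> rw [e]
  exacts [one_mem _, hk _, inv_mem (hk _)]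

namespace Conf

variable {G : Type*} [Group G] [Finite G] {z f : G} {Qf : G → Subgroup G} (c : Conf z f Qf)
include c

theorem exists_Qfix {v : V8} (hv : InF v) : ∃ q ∈ c.Qfix, c.D.phi q = v := by
  obtain ⟨q, hq, e⟩ := c.D.phi_surj v
  exact ⟨q, c.mem_Qfix.2 ⟨hq, (c.comm_iff hq).2 (by rw [e]; exact hv)⟩, e⟩

theorem act_fix {x : G} (hx : x * z = z * x) (hxQ : ∀ q ∈ c.Qfix, x * q = q * x) {v : V8}
    (hv : InF v) : c.D.act x v = v := by
  obtain ⟨q, hq, rfl⟩ := c.exists_Qfix hv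
  rw [← c.D.act_phi x hx q (c.mem_Qfix.1 hq).1, hxQ q hq, mul_inv_cancel_right]

theorem act_M {x : G} (hx : x * z = z * x) (hxQ : ∀ q ∈ c.Qfix, x * q = q * x) {m : W6}
    (hm : InM m) : c.D.act x (emb m) = emb (c.D.act x (emb m)).2.2 ∧
      InM (c.D.act x (emb m)).2.2 := by
  refine perp_inF _ fun i => ?_
  have h := c.D.act_bil c.good hx (emb m) (sF i)
  rw [c.act_fix hx hxQ (sF_facts i).1] at h
  rw [h]
  obtain ⟨a, b, d, e, rfl⟩ := sM_span m hm
  have hs : ∀ (k : ZMod 2) (w : W6), bV (emb w) (sF i) = 0 → bV (emb (k • w)) (sF i) = 0 :=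
    fun k w hw => by
      rcases zmod_cases k with rfl | rfl
      · rw [zero_smul, show emb (0 : W6) = 0 from rfl, bV_zero_left]
      · rw [one_smul, hw]
  simp only [emb_add, bV_add_left, hs _ _ (bV_sM_sF 0 i), hs _ _ (bV_sM_sF 1 i),
    hs _ _ (bV_sM_sF 2 i), hs _ _ (bV_sM_sF 3 i), add_zero]

/-- `K` centralises the elements of `O₂(C(z))` with moved coordinates. -/
theorem K_comm_moved {k q : G} (hk : k ∈ c.K) (hq : q ∈ Qf z) {m : W6} (hm : InM m)
    (hqm : c.D.phi q = emb m) : k * q = q * k := by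
  obtain ⟨hkz, hkf, hkM⟩ := c.mem_K.1 hk
  obtain ⟨u, hu⟩ := moved_surj m hm
  have hu' : f6 (projM u) + projM u = m := by
    rw [← (a6_facts u).2.2.2.1, ← projM_add, hu, (projM_facts m).2.1 hm]
  obtain ⟨p, hp, hpe⟩ := c.D.phi_surj (emb (projM u))
  have h1 : c.D.phi (k * p * k⁻¹) = c.D.phi p := by
    rw [c.D.act_phi k hkz p hp, hpe, hkM _ (projM_facts u).1]
  have hfp := c.good.norm f c.hfz p hp
  have hr : f * p * f⁻¹ * p ∈ Qf z := mul_mem hfp hp
  have hre : c.D.phi (f * p * f⁻¹ * p) = emb m := by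
    rw [c.D.phi_mul _ hfp _ hp, c.D.act_phi f c.hfz p hp, c.hact, hpe, ← emb_f6, ← emb_add, hu']
  have hkp : k * p * k⁻¹ = p ∨ k * p * k⁻¹ = p * z :=
    c.D.eq_or_of_phi_eq c.good (c.good.norm k hkz p hp) hp h1
  have hzc : ∀ {x : G}, x * z = z * x → z * x * z = x := fun {x} hx => by
    rw [← hx, mul_assoc, c.good.x_sq, mul_one]
  have hkr : k * (f * p * f⁻¹ * p) * k⁻¹ = f * p * f⁻¹ * p := by
    rw [show k * (f * p * f⁻¹ * p) * k⁻¹ = k * f * p * f⁻¹ * k⁻¹ * (k * p * k⁻¹) by group,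
      hkf, show f * k * p * f⁻¹ * k⁻¹ = f * (k * p * k⁻¹) * f⁻¹ by
        rw [mul_assoc (f * k * p), ← mul_inv_rev, hkf, mul_inv_rev]; group]
    rcases hkp with e | e <;> rw [e]
    calc f * (p * z) * f⁻¹ * (p * z) = f * p * (z * (f⁻¹ * p) * z) := by group
      _ = f * p * (f⁻¹ * p) := by
        rw [hzc (Commute.mul_left (Commute.inv_left c.hfz) (c.good.le_cent p hp) :)]
      _ = f * p * f⁻¹ * p := by group
  have hkr' := mul_inv_eq_iff_eq_mul.1 hkr
  rcases c.D.eq_or_of_phi_eq c.good hq hr (hqm.trans hre.symm) with e | e <;> rw [e]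
  · exact hkr'
  · exact (Commute.mul_right hkr' hkz :)

/-- The centraliser of `O₂(C(z)) ∩ C(f)` in `C(z)` centralises `K`. -/
theorem comm_K {x : G} (hx : x * z = z * x) (hxQ : ∀ q ∈ c.Qfix, x * q = q * x) {k : G}
    (hk : k ∈ c.K) : x * k = k * x := by
  classical
  let Kc : Subgroup ↥c.K :=
    { carrier := {k | (k : G) * x = x * k}
      one_mem' := by simp
      mul_mem' := fun {a b} ha hb => (Commute.mul_left ha hb :)
      inv_mem' := fun {a} ha => (Commute.inv_left ha :) }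
  have hxi : x⁻¹ * z = z * x⁻¹ := (Commute.inv_left hx :)
  have h3 : ∀ l : ↥c.K, l ^ 3 = 1 → l ∈ Kc := by
    intro l hl
    obtain ⟨hlz, hlf, hlM⟩ := c.mem_K.1 l.2
    have hli : (l : G)⁻¹ * z = z * (l : G)⁻¹ := (Commute.inv_left hlz :)
    set d := (l : G) * x * (l : G)⁻¹ * x⁻¹ with hd
    have hlx : (l : G) * x * z = z * ((l : G) * x) := (Commute.mul_left hlz hx :)
    have hdz : d * z = z * d := (Commute.mul_left (Commute.mul_left hlx hli) hxi :)
    have hact : ∀ v, c.D.act ((l : G) * x) v = c.D.act (x * l) v := by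
      refine eq_of_split (c.act_add hlx) (c.act_add (Commute.mul_left hx hlz :)) (fun v hv => ?_)
        fun m hm => ?_
      · rw [c.act_mul hlz hx, c.act_mul hx hlz, c.act_fix hx hxQ hv,
          c.act_fix hx hxQ (c.act_inF hlz hlf hv)]
      · obtain ⟨e, hM'⟩ := c.act_M hx hxQ hm
        rw [c.act_mul hlz hx, c.act_mul hx hlz, hlM m hm, e, hlM _ hM']
    have hdQ : d ∈ Qf z := c.D.act_eq_id d hdz fun v => by
      rw [c.act_mul (Commute.mul_left hlx hli :) hxi, c.act_mul hlx hli, hact,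
        c.act_mul hx hlz, ← c.act_mul hlz hli, mul_inv_cancel, c.D.act_one c.good,
        ← c.act_mul hx hxi, mul_inv_cancel, c.D.act_one c.good]
    have hdF : ∀ q ∈ c.Qfix, d * q = q * d := by
      intro q hq
      obtain ⟨h1, h2⟩ := c.mem_Qfix.1 hq
      have hcq : (l : G) * x * (l : G)⁻¹ * q = q * ((l : G) * x * (l : G)⁻¹) := by
        have hq' : (l : G)⁻¹ * q * l ∈ c.Qfix := c.mem_Qfix.2 ⟨by
          simpa using c.good.norm _ hli q h1,
          (Commute.mul_left (Commute.mul_left (Commute.inv_left hlf) h2) hlf :)⟩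
        calc (l : G) * x * (l : G)⁻¹ * q = l * (x * ((l : G)⁻¹ * q * l)) * (l : G)⁻¹ := by group
          _ = _ := by rw [hxQ _ hq']; group
      exact (Commute.mul_left hcq (Commute.inv_left (hxQ q hq)) :)
    obtain ⟨he, hM⟩ := perp_inF (c.D.phi d) fun i => by
      obtain ⟨q, hq, hqe⟩ := c.exists_Qfix (sF_facts i).1
      rw [← hqe, ← c.D.comm_iff d hdQ q (c.mem_Qfix.1 hq).1]
      exact hdF q hq
    have hcd : (l : G) * d = d * l := c.K_comm_moved l.2 hdQ hM he
    have e1 : (l : G) * x * (l : G)⁻¹ = d * x := by rw [hd]; group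
    have e3 : (l : G) ^ 3 = 1 := congrArg Subtype.val hl
    have hx3 : x = d * d * d * x := by
      have hconj : ∀ y, (l : G) * (d * y) * (l : G)⁻¹ = d * ((l : G) * y * (l : G)⁻¹) := fun y => by
        rw [← mul_assoc (l : G) d y, hcd]; group
      calc x = (l : G) ^ 3 * x * ((l : G) ^ 3)⁻¹ := by rw [e3]; group
        _ = l * (l * (l * x * (l : G)⁻¹) * (l : G)⁻¹) * (l : G)⁻¹ := by
          simp only [pow_succ, pow_zero, one_mul, mul_inv_rev, mul_assoc]
        _ = _ := by rw [e1, hconj, hconj, e1, hconj, e1]; simp only [mul_assoc]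
    have hd3 : d * d * d = 1 := by simpa using hx3.symm
    have hd1 : d = 1 := by
      rcases c.good.sq_cases hdQ with e | e
      · rwa [e, one_mul] at hd3
      · rw [e] at hd3
        rw [eq_inv_of_mul_eq_one_right hd3, inv_eq_of_mul_eq_one_right c.good.x_sq,
          c.good.x_sq] at e
        exact absurd e.symm c.good.x_ne
    have := mul_inv_eq_one.1 (hd ▸ hd1 : (l : G) * x * (l : G)⁻¹ * x⁻¹ = 1)
    exact mul_inv_eq_iff_eq_mul.1 this
  have hQfix : ∀ l : ↥c.K, (l : G) ∈ c.Qfix → l ∈ Kc := fun l hl => (hxQ _ hl).symm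
  have hall : Kc.map c.pi = alternatingGroup (Fin 5) := by
    refine le_antisymm (fun σ hσ => ?_) ?_
    · obtain ⟨l, -, rfl⟩ := hσ
      exact Equiv.Perm.mem_alternatingGroup.2 (c.sign_pi l)
    rw [← Equiv.Perm.closure_three_cycles_eq_alternating, Subgroup.closure_le]
    intro σ hσ
    have hmem : σ ∈ c.pi.range := by
      rw [c.range_pi, ← Equiv.Perm.closure_three_cycles_eq_alternating]
      exact Subgroup.subset_closure hσ
    obtain ⟨l, rfl⟩ := hmem
    have hσ3 : c.pi l ^ 3 = 1 := by rw [← hσ.orderOf, pow_orderOf_eq_one]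
    have hk : l ^ 3 ∈ c.pi.ker := by rw [MonoidHom.mem_ker, map_pow, hσ3]
    rw [c.ker_pi, Subgroup.mem_subgroupOf] at hk
    have h4 : (l ^ 3) ^ 4 = 1 := by
      refine Subtype.ext ?_
      rw [Subgroup.coe_pow, Subgroup.coe_one]
      rcases c.good.sq_cases (c.mem_Qfix.1 hk).1 with e | e
      · rw [show 4 = 2 * 2 from rfl, pow_mul, pow_two ((l ^ 3 : ↥c.K) : G), e, one_pow]
      · rw [show 4 = 2 * 2 from rfl, pow_mul, pow_two ((l ^ 3 : ↥c.K) : G), e, pow_two,
          c.good.x_sq]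
    refine ⟨l ^ 4, h3 _ (by rw [← pow_mul, mul_comm, pow_mul]; exact h4), ?_⟩
    rw [map_pow, show 4 = 3 + 1 from rfl, pow_succ, hσ3, one_mul]
  have hk' : c.pi ⟨k, hk⟩ ∈ Kc.map c.pi := by
    rw [hall]; exact Equiv.Perm.mem_alternatingGroup.2 (c.sign_pi _)
  obtain ⟨l, hl, e⟩ := hk'
  have hlk : l⁻¹ * ⟨k, hk⟩ ∈ c.pi.ker := by rw [MonoidHom.mem_ker, map_mul, map_inv, e, inv_mul_cancel]
  rw [c.ker_pi, Subgroup.mem_subgroupOf] at hlk
  have := mul_mem hl (hQfix _ hlk)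
  rw [mul_inv_cancel_left] at this
  exact (show k * x = x * k from this).symm

end Conf

namespace Frame

variable {G : Type*} [Group G] [Finite G] {z s f : G} {Qf : G → Subgroup G} (F : Frame z s f Qf)
variable {t : G} {a : ℕ} (T : Cyc z s f t a)
include F T

/-- The Hall–Janko subgroup. -/
def H0 (_T : Cyc z s f t a) : Subgroup G := Subgroup.closure ((F.conf.K : Set G) ∪ {t})

theorem K_le_H0 : F.conf.K ≤ F.H0 T := fun _ hx => Subgroup.subset_closure (Or.inl hx)

theorem t_mem_H0 : t ∈ F.H0 T := Subgroup.subset_closure (Or.inr rfl)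

theorem H0_comm_f {x : G} (hx : x ∈ F.H0 T) : x * f = f * x :=
  Subgroup.mem_centralizer_singleton_iff.1 ((Subgroup.closure_le (Subgroup.centralizer {f})).2 (by
    rintro y (hy | rfl)
    · exact Subgroup.mem_centralizer_singleton_iff.2 (F.conf.mem_K.1 hy).2.1
    · exact Subgroup.mem_centralizer_singleton_iff.2 T.hf) hx)

theorem mem_C0 {x : G} (hK : ∀ k ∈ F.conf.K, x * k = k * x) (ht : x * t = t * x) :
    x ∈ Subgroup.centralizer (F.H0 T : Set G) := by
  rw [H0, Subgroup.centralizer_closure, Subgroup.mem_centralizer_iff]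
  rintro y (hy | rfl)
  exacts [(hK y hy).symm, ht.symm]

theorem f_mem_C0 : f ∈ Subgroup.centralizer (F.H0 T : Set G) :=
  Subgroup.mem_centralizer_iff.2 fun _ hx => F.H0_comm_f T hx

/-- An element of `C(H0)` acting as `a8`. -/
theorem exists_a8_C0 : ∃ y ∈ Subgroup.centralizer (F.H0 T : Set G),
    y * z = z * y ∧ ∀ v, F.P.D.act y v = a8 v := by
  obtain ⟨y, hyz, hyt, hy⟩ := F.exists_a8 T
  have hy2z : y * y * z = z * (y * y) := (Commute.mul_left hyz hyz :)
  have hy2 : ∀ q ∈ F.conf.Qfix, y * y * q = q * (y * y) := by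
    intro q hq
    obtain ⟨h1, h2⟩ := F.conf.mem_Qfix.1 hq
    have e : F.P.D.phi (y * q * y⁻¹) = F.P.D.phi q := by
      rw [F.P.D.act_phi y hyz q h1, hy]
      exact a8_facts.2.2.1 _ ((F.conf.comm_iff h1).1 h2)
    refine mul_inv_eq_iff_eq_mul.1 ?_
    rw [show y * y * q * (y * y)⁻¹ = y * (y * q * y⁻¹) * y⁻¹ by group]
    rcases F.P.D.eq_or_of_phi_eq F.P.gz (F.P.gz.norm y hyz q h1) h1 e with h | h <;> rw [h]
    · exact h
    · rw [show y * (q * z) * y⁻¹ = (y * q * y⁻¹) * (y * z * y⁻¹) by group, h,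
        show y * z * y⁻¹ = z from mul_inv_eq_iff_eq_mul.2 hyz, mul_assoc, F.P.zz, mul_one]
  have h4z : y * y * (y * y) * z = z * (y * y * (y * y)) := (Commute.mul_left hy2z hy2z :)
  refine ⟨y * y * (y * y), F.mem_C0 T (fun k hk => F.conf.comm_K h4z (fun q hq => ?_) hk)
    (Commute.mul_left (Commute.mul_left hyt hyt) (Commute.mul_left hyt hyt) :), h4z, fun v => ?_⟩
  · exact (Commute.mul_left (hy2 q hq) (hy2 q hq) :)
  · rw [F.P.D.act_mul F.P.gz hy2z hy2z, F.P.D.act_mul F.P.gz hyz hyz, F.P.D.act_mul F.P.gz hyz hyz,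
      hy, hy, hy, hy, a8_a8]

theorem f_notMem_H0 : f ∉ F.H0 T := by
  intro h
  obtain ⟨y, hy, hyz, hact⟩ := F.exists_a8_C0 T
  have e : f * y = y * f := Subgroup.mem_centralizer_iff.1 hy f h
  refine a8_not_comm ?_
  rw [← F.hact, ← hact, ← hact, ← F.hact, ← F.P.D.act_mul F.P.gz hyz F.hfz, ← e,
    F.P.D.act_mul F.P.gz F.hfz hyz]

theorem pow_eq_one_of_mem_H0 {n : ℕ} (h : f ^ n ∈ F.H0 T) : f ^ n = 1 := by
  by_contra hne
  have h5 : ¬ 5 ∣ n := fun ⟨k, hk⟩ => hne (by rw [hk, pow_mul, F.hf5, one_pow])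
  refine F.f_notMem_H0 T ?_
  obtain ⟨m, hm⟩ := exists_pow_eq_self_of_coprime (x := f) (n := n) (by
    rw [F.conf.orderOf_f]
    exact ((Nat.Prime.coprime_iff_not_dvd (by norm_num)).2 h5).symm)
  have h' := pow_mem h m
  rwa [hm] at h'

theorem isoJ2_H0 : Cfsg.Spor.IsoJ2 ↥(F.H0 T) := by
  refine F.isoJ2_of_image (Subgroup.inclusion (F.K_le_H0 T)) (Subgroup.inclusion_injective _)
    (fun x hx => ?_) ?_ ?_
  · have hxz : (x : G) * z = z * x := congrArg Subtype.val hx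
    obtain ⟨n, hn⟩ := F.conf.exists_pow_mul hxz (F.H0_comm_f T x.2)
    have h1 : f ^ n = 1 := F.pow_eq_one_of_mem_H0 T (by
      have := mul_mem (F.K_le_H0 T hn) (inv_mem x.2)
      rwa [mul_inv_cancel_right] at this)
    rw [h1, one_mul] at hn
    exact ⟨⟨x, hn⟩, Subtype.ext rfl⟩
  · exact isConj_iff.2 ⟨⟨t, F.t_mem_H0 T⟩, Subtype.ext T.hz⟩
  · intro k hk
    obtain ⟨g, hg⟩ := isConj_iff.1 hk
    exact isConj_iff.2 ⟨g, congrArg Subtype.val hg⟩

theorem isoJ2_quotient (N : Subgroup G) (hN : ∀ x, x ∈ N ↔ x * f = f * x)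
    [((Subgroup.zpowers f).subgroupOf N).Normal] :
    Cfsg.Spor.IsoJ2 (↥N ⧸ (Subgroup.zpowers f).subgroupOf N) := by
  have hKN : F.conf.K ≤ N := fun x hx => (hN x).2 (F.conf.mem_K.1 hx).2.1
  have hpow : ∀ {x : G}, x ∈ Subgroup.zpowers f → ∃ n : ℕ, f ^ n = x := fun hx =>
    mem_powers_iff_mem_zpowers.2 hx
  have hinv : ∀ {w w' : G}, w' * w' = 1 → w * w = 1 → w * f = f * w →
      w⁻¹ * w' ∈ Subgroup.zpowers f → w' = w := by
    intro w w' h1 h2 hc hm
    obtain ⟨n, hn⟩ := hpow hm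
    have hw : w' = w * f ^ n := by rw [hn, mul_inv_cancel_left]
    have h2n : f ^ (2 * n) = 1 := by
      rw [hw, show w * f ^ n * (w * f ^ n) = w * (f ^ n * w) * f ^ n by group,
        ← (Commute.pow_right hc n).eq, ← mul_assoc, h2, one_mul, ← pow_add, ← two_mul] at h1
      exact h1
    have h6 : f ^ (6 * n) = 1 := by rw [show 6 * n = 2 * n * 3 by ring, pow_mul, h2n, one_pow]
    rw [show 6 * n = 5 * n + n by ring, pow_add, pow_mul, F.hf5, one_pow, one_mul] at h6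
    rw [hw, h6, mul_one]
  have hkey : ∀ w : G, (∃ n : ℕ, f ^ n = w) → w ∈ F.conf.K → w = 1 := by
    rintro w ⟨n, rfl⟩ h
    exact F.pow_eq_one_of_mem_K h
  refine F.isoJ2_of_image ((QuotientGroup.mk' _).comp (Subgroup.inclusion hKN)) ?_ ?_ ?_ ?_
  · refine (injective_iff_map_eq_one _).2 fun k hk => ?_
    have hm : (k : G) ∈ Subgroup.zpowers f := by
      rw [MonoidHom.comp_apply, QuotientGroup.mk'_apply, QuotientGroup.eq_one_iff] at hk
      exact hk
    exact Subtype.ext (hkey _ (hpow hm) k.2)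
  · intro x
    induction x using QuotientGroup.induction_on with
    | H y =>
      intro hy
      have hz : z ∈ F.conf.K := F.conf.Qfix_le F.z_mem_Qfix
      have hm : (z : G)⁻¹ * ((y : G)⁻¹ * z * y) ∈ Subgroup.zpowers f := by
        have e0 : ((y * Subgroup.inclusion hKN ⟨z, hz⟩ : ↥N) : ↥N ⧸ (Subgroup.zpowers f).subgroupOf N) =
          ((Subgroup.inclusion hKN ⟨z, hz⟩ * y : ↥N) : ↥N ⧸ (Subgroup.zpowers f).subgroupOf N) := hy
        have e := QuotientGroup.eq.1 e0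
        rw [Subgroup.mem_subgroupOf] at e
        have e' : ((y : G) * z)⁻¹ * (z * y) ∈ Subgroup.zpowers f := e
        rwa [show ((y : G) * z)⁻¹ * (z * y) = z⁻¹ * ((y : G)⁻¹ * z * y) by group] at e'
      have e2 := hinv (by
        rw [show (y : G)⁻¹ * z * y * ((y : G)⁻¹ * z * y) = (y : G)⁻¹ * (z * z) * y by group, F.P.zz]
        group) F.P.zz F.hfz.symm hm
      have hyz : (y : G) * z = z * y := by
        calc (y : G) * z = (y : G) * ((y : G)⁻¹ * z * y) := by rw [e2]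
          _ = z * y := by group
      obtain ⟨n, hn⟩ := F.conf.exists_pow_mul hyz ((hN _).1 y.2)
      refine ⟨⟨f ^ n * y, hn⟩, ?_⟩
      rw [MonoidHom.comp_apply, QuotientGroup.mk'_apply, QuotientGroup.eq, Subgroup.mem_subgroupOf]
      show (f ^ n * (y : G))⁻¹ * y ∈ Subgroup.zpowers f
      rw [show (f ^ n * (y : G))⁻¹ * y = (y : G)⁻¹ * (f ^ n)⁻¹ * y by group, mul_assoc,
        ← (Commute.inv_right (Commute.pow_right ((hN _).1 y.2) n)).eq, ← mul_assoc,
        inv_mul_cancel, one_mul]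
      exact inv_mem (Subgroup.npow_mem_zpowers f n)
  · refine isConj_iff.2 ⟨QuotientGroup.mk' _ ⟨t, (hN t).2 T.hf⟩, ?_⟩
    simp only [MonoidHom.comp_apply, ← map_mul, ← map_inv]
    exact congrArg _ (Subtype.ext T.hz)
  · intro k hk
    obtain ⟨g, hg⟩ := isConj_iff.1 hk
    induction g using QuotientGroup.induction_on with
    | H g =>
      have hz : z ∈ F.conf.K := F.conf.Qfix_le F.z_mem_Qfix
      have e0 : ((g * Subgroup.inclusion hKN ⟨z, hz⟩ * g⁻¹ : ↥N) : ↥N ⧸ (Subgroup.zpowers f).subgroupOf N) =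
        ((Subgroup.inclusion hKN k : ↥N) : ↥N ⧸ (Subgroup.zpowers f).subgroupOf N) := hg
      have e := QuotientGroup.eq.1 e0
      rw [Subgroup.mem_subgroupOf] at e
      have hk2 : (k : G) * k = 1 := by
        have h1 : ((QuotientGroup.mk' ((Subgroup.zpowers f).subgroupOf N)).comp
            (Subgroup.inclusion hKN)) (k * k) = 1 := by
          rw [map_mul, ← hg, conj_mul, ← map_mul,
            show (⟨z, hz⟩ : ↥F.conf.K) * ⟨z, hz⟩ = 1 from Subtype.ext F.P.zz, map_one]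
          group
        rw [MonoidHom.comp_apply, QuotientGroup.mk'_apply, QuotientGroup.eq_one_iff] at h1
        exact hkey _ (hpow (show (k : G) * k ∈ Subgroup.zpowers f from h1)) (mul_mem k.2 k.2)
      have hgf : (g : G) * f = f * g := (hN _).1 g.2
      exact isConj_iff.2 ⟨g, (hinv hk2 (by rw [conj_mul, F.P.zz]; group)
        (Commute.mul_left (Commute.mul_left hgf F.hfz.symm) (Commute.inv_left hgf) :) e).symm⟩

theorem exists_perm_C0 (x : ↥(Subgroup.centralizer (F.H0 T : Set G))) (i : Fin 5) :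
    ∃ j, emb (sM j) = F.P.D.act x (emb (sM i)) := by
  have hK : ∀ k ∈ F.conf.K, (x : G) * k = k * x := fun k hk =>
    (Subgroup.mem_centralizer_iff.1 x.2 k (F.K_le_H0 T hk)).symm
  have hxz := hK z (F.conf.Qfix_le F.z_mem_Qfix)
  obtain ⟨h1, h2⟩ := F.conf.act_M hxz (fun q hq => hK q (F.conf.Qfix_le hq)) (sM_facts i).1
  have hq : qW (F.P.D.act x (emb (sM i))).2.2 = 0 := by
    have h3 := F.P.D.act_iso x hxz (emb (sM i))
    rw [show qV (emb (sM i)) = 0 from by simp [qV, emb, (sM_facts i).2.1]] at h3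
    have h4 : (F.P.D.act x (emb (sM i))).2.1 = 0 := congrArg (fun v : V8 => v.2.1) h1
    rw [qV, h4, mul_zero, zero_add] at h3
    exact h3
  obtain ⟨j, hj⟩ := sM_surj _ h2 hq (fun e => (sM_facts i).2.2 (by
    have h' : F.P.D.act x (emb (sM i)) = F.P.D.act x 0 := by
      rw [show F.P.D.act x (emb (sM i)) = _ from h1, F.act_zero hxz]
      exact (congrArg emb e).trans rfl
    exact congrArg (fun v : V8 => v.2.2) (F.conf.act_inj hxz h')))
  exact ⟨j, by rw [hj]; exact h1.symm⟩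

/-- `C(H0)` is alternating of degree 5. -/
theorem nonempty_C0_iso :
    Nonempty (↥(Subgroup.centralizer (F.H0 T : Set G)) ≃* alternatingGroup (Fin 5)) := by
  classical
  set C0 := Subgroup.centralizer (F.H0 T : Set G) with hC0
  have hK : ∀ x : ↥C0, ∀ k ∈ F.conf.K, (x : G) * k = k * x := fun x k hk =>
    (Subgroup.mem_centralizer_iff.1 x.2 k (F.K_le_H0 T hk)).symm
  have hxz : ∀ x : ↥C0, (x : G) * z = z * x := fun x => hK x z (F.conf.Qfix_le F.z_mem_Qfix)
  let pf : ↥C0 → Fin 5 → Fin 5 := fun x i => (F.exists_perm_C0 T x i).choose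
  have hspec : ∀ x i, emb (sM (pf x i)) = F.P.D.act x (emb (sM i)) := fun x i =>
    (F.exists_perm_C0 T x i).choose_spec
  have hinj' : ∀ i j : Fin 5, emb (sM i) = emb (sM j) → i = j := fun i j e =>
    sM_inj i j (congrArg (fun v : V8 => v.2.2) e)
  let ρ : ↥C0 →* Equiv.Perm (Fin 5) :=
    { toFun := fun x => Equiv.ofBijective (pf x) (Finite.injective_iff_bijective.1 fun i j e =>
        hinj' i j (F.conf.act_inj (hxz x) ((hspec x i).symm.trans ((congrArg (fun a => emb (sM a)) e).trans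
          (hspec x j)))))
      map_one' := Equiv.ext fun i => hinj' _ _ (by
        show emb (sM (pf 1 i)) = emb (sM i)
        rw [hspec]; exact F.P.D.act_one F.P.gz _)
      map_mul' := fun x y => Equiv.ext fun i => hinj' _ _ (by
        show emb (sM (pf (x * y) i)) = emb (sM (pf x (pf y i)))
        rw [hspec, hspec, hspec]
        exact F.P.D.act_mul F.P.gz (hxz x) (hxz y) _) }
  have hρ : ∀ (x : ↥C0) (i : Fin 5), emb (sM (ρ x i)) = F.P.D.act x (emb (sM i)) := hspec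
  have hfix : ∀ (x : ↥C0) (v : V8), InF v → F.P.D.act x v = v := fun x v hv =>
    F.conf.act_fix (hxz x) (fun q hq => hK x q (F.conf.Qfix_le hq)) hv
  have hinj : Function.Injective ρ := by
    refine (injective_iff_map_eq_one ρ).2 fun x hx => ?_
    have hQ : (x : G) ∈ Qf z := F.P.D.act_eq_id x (hxz x) (eq_of_split (F.act_add (hxz x))
      (g' := id) (fun _ _ => rfl) (hfix x) fun w hw =>
        eq_on_inM (F.act_add (hxz x)) (g' := id) (fun _ _ => rfl)
          (fun i => by rw [← hρ, hx]; rfl) hw)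
    have hperp : ∀ i, bV (F.P.D.phi x) (sF i) = 0 := fun i => by
      obtain ⟨q, hq, hqe⟩ := F.conf.exists_Qfix (sF_facts i).1
      rw [← show F.P.D.phi q = sF i from hqe, ← F.P.D.comm_iff x hQ q (F.conf.mem_Qfix.1 hq).1]
      exact hK x q (F.conf.Qfix_le hq)
    obtain ⟨hM1, hM2⟩ := perp_inF _ hperp
    have htx : t * (x : G) = x * t := Subgroup.mem_centralizer_iff.1 x.2 t (F.t_mem_H0 T)
    have hs : (x : G) ∈ Qf s := by
      have h' := F.conj_core_z T hQ
      rwa [mul_inv_eq_iff_eq_mul.2 htx] at h'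
    have hphi : F.P.D.phi x = 0 := by
      rcases (F.P.inP_iff hQ).1 (F.P.inP_of_both hQ hs) with e | e
      · exact e
      · rw [e] at hM1
        exact absurd hM1 (by decide)
    rcases (F.P.D.phi_eq_zero x hQ).1 hphi with e | e
    · exact Subtype.ext e
    · exfalso
      rw [e] at htx
      exact F.P.z_ne_s ((mul_inv_eq_iff_eq_mul.2 htx).symm.trans T.hz)
  obtain ⟨y, hy, hyz, hact⟩ := F.exists_a8_C0 T
  have hc : ∀ i, ρ ⟨f, F.f_mem_C0 T⟩ i = i + 1 := fun i => hinj' _ _ (by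
    rw [hρ, F.hact, ← emb_f6, f6_sM])
  have ha : ∀ i, ρ ⟨y, hy⟩ i = ![1, 2, 0, 3, 4] i := fun i => hinj' _ _ (by
    rw [hρ, hact, a8_sM])
  have hge : alternatingGroup (Fin 5) ≤ ρ.range := by
    rw [← Equiv.Perm.closure_three_cycles_eq_alternating, Subgroup.closure_le]
    intro σ hσ
    obtain ⟨i, j, rfl⟩ := three_cycle_words σ (by rw [← hσ.orderOf, pow_orderOf_eq_one])
    have hsub : Subgroup.closure ({ρ ⟨f, F.f_mem_C0 T⟩, ρ ⟨y, hy⟩} : Set (Equiv.Perm (Fin 5)))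
        ≤ ρ.range := by
      rw [Subgroup.closure_le]
      rintro _ (rfl | rfl) <;> exact ⟨_, rfl⟩
    exact mul_mem (hsub (cyc5_eq _ _ hc ha i)) (hsub (cyc5_eq _ _ hc ha j))
  have hle : ρ.range ≤ alternatingGroup (Fin 5) := by
    rintro _ ⟨x, rfl⟩
    refine Equiv.Perm.mem_alternatingGroup.2 ((Int.units_eq_one_or _).resolve_right fun h => ?_)
    have hm : (ρ x)⁻¹ * Equiv.swap (0 : Fin 5) 1 ∈ alternatingGroup (Fin 5) := by
      rw [Equiv.Perm.mem_alternatingGroup, map_mul, map_inv, h, Equiv.Perm.sign_swap (by decide)]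
      decide
    have hsw := mul_mem (⟨x, rfl⟩ : ρ x ∈ ρ.range) (hge hm)
    rw [mul_inv_cancel_left] at hsw
    obtain ⟨u, hu⟩ := hsw
    obtain ⟨q1, a1, b1⟩ := sM_refl 0 1 (by decide)
    refine F.P.D.act_ne_refl u (hxz u) _ q1 (eq_of_split (F.act_add (hxz u)) (Co1Type47.refl_add _)
      (fun v hv => ?_) fun w hw => eq_on_inM (F.act_add (hxz u)) (Co1Type47.refl_add _) (fun i => ?_) hw)
    · rw [hfix u v hv]
      exact (eq_on_inF (Co1Type47.refl_add _) (g' := id) (fun _ _ => rfl) b1 hv).symm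
    · rw [← hρ, hu, a1]
  exact ⟨(MonoidHom.ofInjective hinj).trans (MulEquiv.subgroupCongr (le_antisymm hle hge))⟩

/-- The layer of `C(f)` and its centraliser. -/
theorem layer_centralizer (N : Subgroup G) (hN : ∀ x, x ∈ N ↔ x * f = f * x) :
    Cfsg.Spor.IsoJ2 ↥(Cfsg.layer ↥N) ∧
      Nonempty (↥(Subgroup.centralizer (((Cfsg.layer ↥N).map N.subtype : Subgroup G) : Set G)) ≃*
        alternatingGroup (Fin 5)) := by
  classical
  set Zf := (Subgroup.zpowers f).subgroupOf N with hZf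
  have : Zf.Normal := ⟨fun x hx g => by
    rw [hZf, Subgroup.mem_subgroupOf] at hx ⊢
    obtain ⟨n, hn⟩ := Subgroup.mem_zpowers_iff.1 hx
    have hgf : (g : G) * f = f * g := (hN _).1 g.2
    have : ((g * x * g⁻¹ : ↥N) : G) = x := by
      show (g : G) * x * (g : G)⁻¹ = x
      rw [← hn, (Commute.zpow_right hgf n).eq, mul_inv_cancel_right]
    rw [this]; exact hx⟩
  have hH0N : F.H0 T ≤ N := fun x hx => (hN x).2 (F.H0_comm_f T hx)
  obtain ⟨e1⟩ := F.isoJ2_H0 T
  obtain ⟨e2⟩ := F.isoJ2_quotient T N hN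
  let ψ : ↥(F.H0 T) →* ↥N ⧸ Zf := (QuotientGroup.mk' _).comp (Subgroup.inclusion hH0N)
  have hψ : Function.Injective ψ := by
    refine (injective_iff_map_eq_one _).2 fun x hx => ?_
    rw [MonoidHom.comp_apply, QuotientGroup.mk'_apply, QuotientGroup.eq_one_iff] at hx
    have hkey : ∀ w : G, (∃ n : ℕ, f ^ n = w) → w ∈ F.H0 T → w = 1 := by
      rintro w ⟨n, rfl⟩ h
      exact F.pow_eq_one_of_mem_H0 T h
    exact Subtype.ext (hkey _ (mem_powers_iff_mem_zpowers.2
      (show (x : G) ∈ Subgroup.zpowers f from hx)) x.2)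
  have hbij := (Nat.bijective_iff_injective_and_card ψ).2
    ⟨hψ, (Nat.card_congr e1.toEquiv).trans (Nat.card_congr e2.toEquiv).symm⟩
  set L := (F.H0 T).subgroupOf N with hL
  have hdec : ∀ g : ↥N, ∃ h ∈ L, ∃ w : ↥N, (∀ y : ↥N, y * w = w * y) ∧ g = h * w := by
    intro g
    obtain ⟨x, hx⟩ := hbij.2 g
    have hm : (Subgroup.inclusion hH0N x)⁻¹ * g ∈ Zf := QuotientGroup.eq.1 hx
    refine ⟨Subgroup.inclusion hH0N x, x.2, _, fun y => Subtype.ext ?_, (mul_inv_cancel_left _ _).symm⟩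
    obtain ⟨n, hn⟩ := Subgroup.mem_zpowers_iff.1 hm
    show (y : G) * _ = _ * (y : G)
    rw [show (((Subgroup.inclusion hH0N x)⁻¹ * g : ↥N) : G) = f ^ n from hn.symm]
    exact (Commute.zpow_right ((hN _).1 y.2) n).eq
  have hLn : L.Normal := ⟨fun x hx g => by
    obtain ⟨h, hh, w, hw, rfl⟩ := hdec g
    rw [show h * w * x * (h * w)⁻¹ = h * (w * x * w⁻¹) * h⁻¹ by group, ← hw x, mul_inv_cancel_right]
    exact mul_mem (mul_mem hh hx) (inv_mem hh)⟩
  have : IsSimpleGroup Cfsg.Spor.J2 := Cfsg.Agent.Lib.Icosian.isSimpleGroup_J2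
  let eL : ↥L ≃* Cfsg.Spor.J2 := (Subgroup.subgroupOfEquivOfLe hH0N).trans e1
  have : IsSimpleGroup ↥L := eL.isSimpleGroup
  have hLq : Cfsg.IsQuasisimple ↥L := KBalance.quasisimple_of_simple (by
    obtain ⟨a, b, hab⟩ := Cfsg.Agent.Lib.Icosian.J2_exists_noncomm
    exact fun h => hab (eL.symm.injective (by rw [map_mul, map_mul]; exact h.is_comm.comm _ _)))
  have hLc : Cfsg.IsComponent L := ⟨hLn.isSubnormal, hLq⟩
  have hlay : Cfsg.layer ↥N = L := by
    refine le_antisymm ?_ (Components.isComponent_le_layer hLc)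
    rw [Components.layer_le_iff]
    intro M hM
    rw [← Components.isComponent_commutator_self hM, Subgroup.commutator_le]
    intro g _ g' _
    obtain ⟨h, hh, w, hw, rfl⟩ := hdec g
    obtain ⟨h', hh', w', hw', rfl⟩ := hdec g'
    rw [show ⁅h * w, h' * w'⁆ = ⁅h, h'⁆ by
      rw [commutatorElement_def, commutatorElement_def]
      calc h * w * (h' * w') * (h * w)⁻¹ * (h' * w')⁻¹
          = h * (w * h') * (w' * w⁻¹) * h⁻¹ * (h' * w')⁻¹ := by group
        _ = h * (h' * w) * (w⁻¹ * w') * h⁻¹ * (h' * w')⁻¹ := by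
          rw [← hw h', (Commute.inv_left (hw w').symm).eq.symm]
        _ = h * h' * (w' * h⁻¹) * (h' * w')⁻¹ := by group
        _ = h * h' * h⁻¹ * h'⁻¹ := by rw [← hw' h⁻¹]; group]
    rw [commutatorElement_def]
    exact mul_mem (mul_mem (mul_mem hh hh') (inv_mem hh)) (inv_mem hh')
  rw [hlay]
  refine ⟨⟨eL⟩, ?_⟩
  rw [hL, Subgroup.map_subgroupOf_eq_of_le hH0N]
  exact F.nonempty_C0_iso T

end Frame

end Cfsg.Agent.Lib.CoTypeB85
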