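import Cfsg.Agent.Lib.CoTypeB85.Frame

/-!
An element of order-3 action on the moved space which centralises the cycling element
(written by helper85).
-/

set_option autoImplicit false
set_option linter.unusedSectionVars false
set_option synthInstance.maxSize 1000
set_option synthInstance.maxHeartbeats 200000

namespace Cfsg.Agent.Lib.CoTypeB85

open Co1Type47

/-- `a8` on `e₀^⊥/e₀`. -/
def a6 (w : W6) : W6 := (a8 (emb w)).2.2

theorem a6_facts : ∀ w : W6, a8 (emb w) = emb (a6 w) ∧ (InM w → InM (a6 w)) ∧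
    (f6 w = w → a6 w = w) ∧ projM (f6 w) = f6 (projM w) ∧ a6 (a6 (a6 w)) = w ∧
    f6 (f6 (a6 (f6 (f6 (a6 w))))) = w := by decide +kernel

theorem a6_add : ∀ u w, a6 (u + w) = a6 u + a6 w := by decide +kernel

theorem a6_sM : ∀ i : Fin 5, a6 (sM i) = sM (![1, 2, 0, 3, 4] i) := by decide +kernel

theorem commutant : ∀ w : W6, InM w →
    (a6 w = f6 w ∧ a6 (f6 w) = f6 (f6 w) ∧ a6 (f6 (f6 w)) = w) →
    a6 (f6 (f6 (f6 w))) = f6 (f6 (f6 w)) → w = 0 ∨ w = sM 0 := by decide +kernel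

theorem cocycle_zero : ∀ m : W6, InM m → m + a6 m + a6 (a6 m) = 0 →
    f6 (f6 m) + f6 (f6 (a6 (f6 (f6 m)))) = 0 → m = 0 := by decide +kernel

theorem inM_add : ∀ u w, InM u → InM w → InM (u + w) := by
  intro u w hu hw
  exact ⟨by rw [bW_add_left, hu.1, hw.1, add_zero], by rw [bW_add_left, hu.2, hw.2, add_zero]⟩

theorem fixed_split : ∀ w : W6, ∃ u m : W6, f6 u = u ∧ InM m ∧ w = u + m := fun w =>
  ⟨w + projM w, projM w, (projM_facts w).2.2.1, (projM_facts w).1, by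
    rw [add_assoc, Co1Type47.add_self_w, add_zero]⟩

/-- An element cycling `z, s, sz` inside `C(f)`. -/
structure Cyc {G : Type*} [Group G] (z s f t : G) (a : ℕ) : Prop where
  hf : t * f = f * t
  pow : t ^ 3 ^ a = 1
  hz : t * z * t⁻¹ = s
  hs : t * s * t⁻¹ = s * z
  hsz : t * (s * z) * t⁻¹ = z

namespace Frame

variable {G : Type*} [Group G] [Finite G] {z s f : G} {Qf : G → Subgroup G} (F : Frame z s f Qf)
include F

/-- The elements fixing the fixed plane of `f6`. -/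
def IsY (x : G) : Prop := x ∈ F.CW ∧ ∀ w, f6 w = w → F.rho x w = w

theorem rho_of_mem {x : G} (hx : x ∈ Qf z) (w : W6) : F.rho x w = w := by
  simp [rho, F.P.D.act_of_mem F.P.gz hx, emb]

theorem rho_B {b : G} (hb : b ∈ Qf s) (hbz : b * z = z * b) (w : W6) : F.rho b w = w := by
  rw [rho, F.P.act_eq hb hbz]; simp [siegel, emb]

theorem rho_inM {x : G} (hx : F.IsY x) {w : W6} (hw : InM w) : InM (F.rho x w) := by
  constructor
  · rw [← hx.2 (repA 1) f6_T.1, F.rho_bW hx.1]; exact hw.1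
  · rw [← hx.2 (repV 1) f6_T.2, F.rho_bW hx.1]; exact hw.2

theorem projM_rho {x : G} (hx : F.IsY x) (u : W6) : projM (F.rho x u) = F.rho x (projM u) := by
  obtain ⟨v, m, hv, hm, rfl⟩ := fixed_split u
  rw [F.rho_add hx.1, projM_add, projM_add, hx.2 v hv, (projM_facts v).2.2.2 hv,
    (projM_facts m).2.1 hm, (projM_facts _).2.1 (F.rho_inM hx hm), zero_add, zero_add]

theorem isY_mul {x y : G} (hx : F.IsY x) (hy : F.IsY y) : F.IsY (x * y) :=
  ⟨mul_mem hx.1 hy.1, fun w hw => by rw [F.rho_mul hx.1 hy.1, hy.2 w hw, hx.2 w hw]⟩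

theorem isY_f : F.IsY f := ⟨F.f_mem, fun w hw => (F.rho_f w).trans hw⟩

theorem alpha_conj' {y x : G} (hy : y ∈ F.CW) (hx : x ∈ F.CW) (hrx : ∀ w, F.rho x w = w) :
    F.P.alpha (y * x * y⁻¹) = F.rho y (F.P.alpha x) := by
  have h1 := F.alpha_mul hy (inv_mem hy)
  rw [mul_inv_cancel, F.alpha_one] at h1
  rw [F.alpha_mul (mul_mem hy hx) (inv_mem hy), F.alpha_mul hy hx, F.rho_mul hy hx, hrx,
    add_right_comm, ← h1, zero_add]

theorem mem_Qz_of {x : G} (hx : x ∈ F.CW) (hr : ∀ w, F.rho x w = w) (ha : F.P.alpha x = 0) :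
    x ∈ Qf z := by
  have hxz := (F.mem_CW.1 hx).1
  have hf0 : F.P.D.act x f₀ = f₀ := by
    have h1 : (F.P.D.act x f₀).2.1 = 1 := F.act_snd hx f₀
    have h2 : (F.P.D.act x f₀).2.2 = 0 := ha
    have h3 := F.P.D.act_iso x hxz f₀
    rw [qV, h1, h2, mul_one, show qW (0 : W6) = 0 from rfl, add_zero, show qV f₀ = 0 by decide] at h3
    exact Prod.ext h3 (Prod.ext h1 h2)
  refine F.P.D.act_eq_id x hxz fun v => ?_
  have hemb : ∀ w, F.P.D.act x (emb w) = emb w := fun w => by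
    have h1 : (F.P.D.act x (emb w)).2.1 = 0 := F.act_snd hx _
    have h2 : (F.P.D.act x (emb w)).2.2 = w := hr w
    have h3 := F.P.D.act_bil F.P.gz hxz (emb w) f₀
    rw [hf0] at h3
    have h4 : (F.P.D.act x (emb w)).1 = 0 := by
      simpa [bV, f₀, emb, bW, bH] using h3
    exact Prod.ext h4 (Prod.ext h1 h2)
  have e : v = v.1 • e₀ + v.2.1 • f₀ + emb v.2.2 := by
    simp [e₀, f₀, emb]
  conv_lhs => rw [e]
  rw [F.act_add hxz, F.act_add hxz, hemb]
  have hs' : ∀ (k : ZMod 2) (u : V8), F.P.D.act x u = u → F.P.D.act x (k • u) = k • u := fun k u hu => by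
    rcases zmod_cases k with rfl | rfl
    · rw [zero_smul, F.act_zero hxz]
    · rw [one_smul, hu]
  rw [hs' _ _ (F.act_e₀ hx), hs' _ _ hf0, ← e]

/-- The kernel of `rho`. -/
def X : Subgroup G where
  carrier := {x | x ∈ F.CW ∧ ∀ w, F.rho x w = w}
  one_mem' := ⟨one_mem _, F.rho_one⟩
  mul_mem' := fun {x y} hx hy => ⟨mul_mem hx.1 hy.1, fun w => by
    rw [F.rho_mul hx.1 hy.1, hy.2, hx.2]⟩
  inv_mem' := fun {x} hx => ⟨inv_mem hx.1, fun w => by
    conv_lhs => rw [← hx.2 w]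
    rw [← F.rho_mul (inv_mem hx.1) hx.1, inv_mul_cancel, F.rho_one]⟩

theorem mem_X {x : G} : x ∈ F.X ↔ x ∈ F.CW ∧ ∀ w, F.rho x w = w := Iff.rfl

theorem three_not_dvd_X : ¬ 3 ∣ Nat.card ↥F.X := by
  intro h
  have : Fact (Nat.Prime 3) := ⟨by norm_num⟩
  obtain ⟨⟨x, hx⟩, hord⟩ := exists_prime_orderOf_dvd_card' (G := ↥F.X) 3 h
  obtain ⟨hxW, hr⟩ := F.mem_X.1 hx
  have h2 : x * x ∈ Qf z := by
    refine F.mem_Qz_of (mul_mem hxW hxW) (fun w => by rw [F.rho_mul hxW hxW, hr, hr]) ?_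
    rw [F.alpha_mul hxW hxW, hr, Co1Type47.add_self_w]
  have h4 : x ^ 8 = 1 := by
    have h := F.P.gz.sq_cases h2
    calc x ^ 8 = (x * x * (x * x)) * (x * x * (x * x)) := by
          simp only [pow_succ, pow_zero, one_mul, mul_assoc]
      _ = 1 := by rcases h with e | e <;> rw [e] <;> simp [F.P.zz]
  have := orderOf_dvd_of_pow_eq_one h4
  rw [show orderOf x = 3 from (Subgroup.orderOf_coe (⟨x, hx⟩ : ↥F.X)).trans hord] at this
  norm_num at this

theorem exists_q (v : W6) : ∃ q, q ∈ Qf z ∧ q * s = s * q ∧ F.P.wPart q = v := by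
  obtain ⟨q, hq, e⟩ := F.P.D.phi_surj (emb v)
  exact ⟨q, hq, (F.P.commute_s hq).2 (by rw [e]; rfl), by rw [Pair.wPart, e]; rfl⟩

section Cycle

variable {t : G} {a : ℕ} (T : Cyc z s f t a)
include T

theorem conj_CW {x : G} (hx : x ∈ F.CW) : t * x * t⁻¹ ∈ F.CW := by
  obtain ⟨h1, h2⟩ := F.mem_CW.1 hx
  have key : ∀ y, x * y = y * x → t * x * t⁻¹ * (t * y * t⁻¹) = t * y * t⁻¹ * (t * x * t⁻¹) :=
    fun y hy => by
      calc t * x * t⁻¹ * (t * y * t⁻¹) = t * (x * y) * t⁻¹ := by group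
        _ = _ := by rw [hy]; group
  exact F.mem_CW.2 ⟨T.hsz ▸ key (s * z) (Commute.mul_right h2 h1).eq, T.hz ▸ key z h1⟩

theorem conj_inP {d : G} (hd : InP z s d) : InP z s (t * d * t⁻¹) := by
  rcases hd with rfl | rfl | rfl | rfl
  · exact Or.inl (by group)
  · exact Or.inr (Or.inr (Or.inl T.hz))
  · exact Or.inr (Or.inr (Or.inr T.hs))
  · exact Or.inr (Or.inl T.hsz)

theorem conj_core_z {x : G} (hx : x ∈ Qf z) : t * x * t⁻¹ ∈ Qf s := by
  have h := F.H.coreMap.conj_mem t hx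
  rwa [T.hz] at h

theorem conj_core_s {x : G} (hx : x ∈ Qf s) : t * x * t⁻¹ ∈ Qf (s * z) := by
  have h := F.H.coreMap.conj_mem t hx
  rwa [T.hs] at h

theorem conj_core_sz {x : G} (hx : x ∈ Qf (s * z)) : t * x * t⁻¹ ∈ Qf z := by
  have h := F.H.coreMap.conj_mem t hx
  rwa [T.hsz] at h

theorem conj_Qs {q : G} (hq : q ∈ Qf z) (hqs : q * s = s * q) :
    t * q * t⁻¹ ∈ Qf s ∧ (t * q * t⁻¹) * z = z * (t * q * t⁻¹) :=
  ⟨F.conj_core_z T hq,
    (F.mem_CW.1 (F.conj_CW T (F.mem_CW.2 ⟨F.P.gz.le_cent q hq, hqs⟩))).1⟩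

/-- The map from the core of `z` to that of `s`. -/
noncomputable def tau (_T : Cyc z s f t a) (v : W6) : W6 :=
  F.P.alpha (t * (F.exists_q v).choose * t⁻¹)

theorem tau_eq {q : G} (hq : q ∈ Qf z) (hqs : q * s = s * q) :
    F.P.alpha (t * q * t⁻¹) = F.tau T (F.P.wPart q) := by
  obtain ⟨h1, h2, h3⟩ := (F.exists_q (F.P.wPart q)).choose_spec
  set q₀ := (F.exists_q (F.P.wPart q)).choose with hq₀
  have hd : q₀⁻¹ * q ∈ Qf z := mul_mem (inv_mem h1) hq
  have hds : q₀⁻¹ * q * s = s * (q₀⁻¹ * q) := (Commute.mul_left (Commute.inv_left h2) hqs :)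
  have hw : F.P.D.phi (q₀⁻¹ * q) = ((F.P.D.phi (q₀⁻¹ * q)).1, 0, 0) := by
    refine Prod.ext rfl (Prod.ext ((F.P.commute_s hd).1 hds) ?_)
    rw [F.P.D.phi_mul _ (inv_mem h1) _ hq, F.P.D.phi_inv F.P.gz h1]
    show F.P.wPart q₀ + F.P.wPart q = 0
    rw [h3, Co1Type47.add_self_w]
  have hP : InP z s (q₀⁻¹ * q) := (F.P.inP_iff hd).2 (by
    rcases zmod_cases (F.P.D.phi (q₀⁻¹ * q)).1 with h | h <;> rw [h] at hw
    · exact Or.inl hw
    · exact Or.inr hw)
  obtain ⟨a1, b1⟩ := F.conj_Qs T h1 h2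
  obtain ⟨a2, b2⟩ := F.conj_Qs T hd hds
  show F.P.alpha (t * q * t⁻¹) = F.P.alpha (t * q₀ * t⁻¹)
  rw [show t * q * t⁻¹ = (t * q₀ * t⁻¹) * (t * (q₀⁻¹ * q) * t⁻¹) by group,
    F.P.alpha_mul a1 b1 a2 b2, F.P.alpha_eq_zero (F.conj_inP T hP), add_zero]

theorem tau_add (u v : W6) : F.tau T (u + v) = F.tau T u + F.tau T v := by
  obtain ⟨h1, h2, h3⟩ := (F.exists_q u).choose_spec
  obtain ⟨k1, k2, k3⟩ := (F.exists_q v).choose_spec
  set q := (F.exists_q u).choose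
  set p := (F.exists_q v).choose
  have e : F.P.wPart (q * p) = u + v := by
    rw [← h3, ← k3, Pair.wPart, F.P.D.phi_mul _ h1 _ k1]; rfl
  obtain ⟨a1, b1⟩ := F.conj_Qs T h1 h2
  obtain ⟨a2, b2⟩ := F.conj_Qs T k1 k2
  rw [← e, ← F.tau_eq T (mul_mem h1 k1) (Commute.mul_left h2 k2 :),
    show t * (q * p) * t⁻¹ = (t * q * t⁻¹) * (t * p * t⁻¹) by group, F.P.alpha_mul a1 b1 a2 b2]
  rfl

theorem tau_iso (v : W6) : qW (F.tau T v) = qW v := by
  obtain ⟨h1, h2, h3⟩ := (F.exists_q v).choose_spec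
  set q := (F.exists_q v).choose
  obtain ⟨a1, b1⟩ := F.conj_Qs T h1 h2
  have e := F.P.sq_B a1 b1
  have e2 : q * q = bpow z (qW v) := by
    rw [F.P.D.sq_eq F.P.gz h1, ← h3]
    simp [qV, Pair.wPart, (F.P.commute_s h1).1 h2]
  have e3 : t * q * t⁻¹ * (t * q * t⁻¹) = bpow s (qW v) := by
    rw [show t * q * t⁻¹ * (t * q * t⁻¹) = t * (q * q) * t⁻¹ by group, e2]
    rcases zmod_cases (qW v) with h | h <;> rw [h]
    · simp [bpow]
    · simpa [bpow] using T.hz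
  exact bpow_inj F.P.gs.x_ne (e.symm.trans e3)

theorem tau_injective : Function.Injective (F.tau T) := by
  intro u v h
  have hb : ∀ x y, bW (F.tau T x) (F.tau T y) = bW x y := fun x y => by
    have h := F.tau_iso T (x + y)
    rw [F.tau_add T, qW_add, qW_add, F.tau_iso T, F.tau_iso T] at h
    exact add_left_cancel h
  refine sub_eq_zero.1 (bW_nondeg _ fun y => ?_)
  have e : u - v = u + v := by
    rw [sub_eq_add_neg, neg_eq_of_add_eq_zero_left (Co1Type47.add_self_w v)]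
  rw [e, bW_add_left, ← hb u, ← hb v, h]
  exact (by decide : ∀ r : ZMod 2, r + r = 0) _

theorem tau_surjective : Function.Surjective (F.tau T) :=
  Finite.injective_iff_surjective.1 (F.tau_injective T)

theorem tau_rho {y : G} (hy : y ∈ F.CW) (v : W6) :
    F.rho (t * y * t⁻¹) (F.tau T v) = F.tau T (F.rho y v) := by
  obtain ⟨h1, h2, h3⟩ := (F.exists_q v).choose_spec
  set q := (F.exists_q v).choose
  obtain ⟨a1, b1⟩ := F.conj_Qs T h1 h2
  obtain ⟨y1, y2⟩ := F.mem_CW.1 hy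
  have hq' : y * q * y⁻¹ * s = s * (y * q * y⁻¹) :=
    (Commute.mul_left (Commute.mul_left y2 h2) (Commute.inv_left y2) :)
  rw [← h3, ← F.wPart_conj hy h1 h2, ← F.tau_eq T h1 h2,
    ← F.tau_eq T (F.P.gz.norm y y1 q h1) hq',
    show t * (y * q * y⁻¹) * t⁻¹ = (t * y * t⁻¹) * (t * q * t⁻¹) * (t * y * t⁻¹)⁻¹ by group,
    F.alpha_conj' (F.conj_CW T hy) (F.conj_CW T (F.mem_CW.2 ⟨F.P.gz.le_cent q h1, h2⟩))
      (F.rho_B a1 b1)]

theorem tau_f6 (v : W6) : F.tau T (f6 v) = f6 (F.tau T v) := by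
  rw [← F.rho_f, ← F.rho_f, ← F.tau_rho T F.f_mem, show t * f * t⁻¹ = f from mul_inv_eq_iff_eq_mul.2 T.hf]

theorem tau_inM {m : W6} (hm : InM m) : InM (F.tau T m) := by
  obtain ⟨u, rfl⟩ := moved_surj m hm
  rw [F.tau_add T, F.tau_f6 T]
  have := (moved_mem (emb (F.tau T u))).2.2
  exact this

theorem isY_conj {y : G} (hy : F.IsY y) : F.IsY (t * y * t⁻¹) := by
  refine ⟨F.conj_CW T hy.1, fun w hw => ?_⟩
  obtain ⟨v, rfl⟩ := F.tau_surjective T w
  have hv : f6 v = v := F.tau_injective T (by rw [F.tau_f6 T]; exact hw)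
  rw [F.tau_rho T hy.1, hy.2 v hv]

theorem X_conj {x : G} (hx : x ∈ F.X) : t * x * t⁻¹ ∈ F.X := by
  obtain ⟨h1, h2⟩ := F.mem_X.1 hx
  refine F.mem_X.2 ⟨F.conj_CW T h1, fun w => ?_⟩
  obtain ⟨v, rfl⟩ := F.tau_surjective T w
  rw [F.tau_rho T h1, h2]

/-- An element inducing `a6` on `e₀^⊥/e₀`. -/
theorem exists_a6 : ∃ y, F.IsY y ∧ ∀ w, F.rho y w = a6 w := by
  obtain ⟨q1, -, -⟩ := sM_refl 0 1 (by decide)
  obtain ⟨q2, -, -⟩ := sM_refl 1 2 (by decide)
  obtain ⟨x, hx, e⟩ := F.conf.exists_act_refl2 _ _ q1 q2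
  have e' : ∀ v, F.P.D.act x v = a8 v := e
  obtain ⟨y, hy1, hy2, hy3⟩ := F.P.exists_fix hx (by rw [e', a8_facts.1])
  have hr : ∀ w, F.rho y w = a6 w := fun w => by rw [rho, hy3, e']; rfl
  exact ⟨y, ⟨F.mem_CW.2 ⟨hy1, hy2⟩, fun w hw => by rw [hr, (a6_facts w).2.2.1 hw]⟩, hr⟩

open Fin.NatCast in
theorem tau_eq_id {m : W6} (hm : InM m) : F.tau T m = m := by
  obtain ⟨k, hk⟩ := sM_surj (F.tau T (sM 0)) (F.tau_inM T (sM_facts 0).1)
    (by rw [F.tau_iso T]; exact (sM_facts 0).2.1) (fun e => (sM_facts 0).2.2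
      (F.tau_injective T (e.trans (by
        have := F.tau_add T 0 0
        rw [add_zero] at this
        exact (left_eq_add.1 this).symm))))
  have hpow : ∀ (n : ℕ) (i : Fin 5), f6^[n] (sM i) = sM (i + n) := by
    intro n
    induction n with
    | zero => intro i; simp
    | succ n ih =>
      intro i
      rw [Function.iterate_succ_apply', ih, f6_sM]
      push_cast
      rw [add_assoc]
  have hit : ∀ (n : ℕ) (u w : W6), f6^[n] (u + w) = f6^[n] u + f6^[n] w := by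
    intro n
    induction n with
    | zero => intro u w; rfl
    | succ n ih => intro u w; simp only [Function.iterate_succ_apply', ih, f6_add]
  have hcm : ∀ (n : ℕ) (u : W6), f6^[n] (f6 u) = f6 (f6^[n] u) := fun n u => by
    rw [← Function.iterate_succ_apply, Function.iterate_succ_apply']
  have hk' : ∀ w, InM w → F.tau T w = f6^[k.val] w := fun w hw =>
    eq_of_comm (F.tau_add T) (hit k.val) (F.tau_f6 T) (hcm k.val)
      (by rw [← hk, hpow]; simp) hw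
  obtain ⟨y, hy, hry⟩ := F.exists_a6 T
  have hiter : ∀ (n : ℕ), F.IsY (t ^ n * y * (t ^ n)⁻¹) ∧ ∀ w, InM w →
      F.rho (t ^ n * y * (t ^ n)⁻¹) (f6^[n * k.val] w) = f6^[n * k.val] (a6 w) := by
    intro n
    induction n with
    | zero => exact ⟨by simpa using hy, fun w _ => by simpa using hry w⟩
    | succ n ih =>
      obtain ⟨ih1, ih2⟩ := ih
      have e : t ^ (n + 1) * y * (t ^ (n + 1))⁻¹ = t * (t ^ n * y * (t ^ n)⁻¹) * t⁻¹ := by
        rw [pow_succ']; group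
      refine ⟨e ▸ F.isY_conj T ih1, fun w hw => ?_⟩
      have hIn : ∀ (n : ℕ) (u : W6), InM u → InM (f6^[n] u) := by
        intro n
        induction n with
        | zero => intro u hu; exact hu
        | succ n ih' =>
          intro u hu
          rw [Function.iterate_succ_apply', ← F.rho_f]
          exact F.rho_inM F.isY_f (ih' u hu)
      rw [e, show (n + 1) * k.val = k.val + n * k.val by ring, Function.iterate_add_apply,
        ← hk' _ (hIn _ w hw), F.tau_rho T ih1.1, ih2 w hw, Function.iterate_add_apply,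
        hk' _ (hIn _ _ ((a6_facts w).2.1 hw))]
  have hfin := (hiter (3 ^ a)).2
  rw [T.pow, one_mul, inv_one, mul_one] at hfin
  have hperm : ∀ i : Fin 5, (![1, 2, 0, 3, 4] : Fin 5 → Fin 5) (i + (3 ^ a * k.val : ℕ)) =
      (![1, 2, 0, 3, 4] : Fin 5 → Fin 5) i + (3 ^ a * k.val : ℕ) := fun i => sM_inj _ _ (by
    have h := hfin (sM i) (sM_facts i).1
    rw [hpow, hry, a6_sM, a6_sM, hpow] at h
    exact h)
  have hzero : ((3 ^ a * k.val : ℕ) : Fin 5) = 0 := by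
    revert hperm
    generalize ((3 ^ a * k.val : ℕ) : Fin 5) = j
    revert j
    decide +kernel
  have h5 : 5 ∣ k.val := by
    have h : 5 ∣ 3 ^ a * k.val := (Fin.natCast_eq_zero).1 hzero
    rcases (Nat.Prime.dvd_mul (by norm_num)).1 h with h | h
    · exact absurd ((by norm_num : Nat.Prime 5).dvd_of_dvd_pow h) (by norm_num)
    · exact h
  have : k.val = 0 := by omega
  rw [hk' m hm, this]; rfl

/-- Conjugation by `t` does not change the action of `Y` on `e₀^⊥/e₀`. -/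
theorem rho_conj {y : G} (hy : F.IsY y) (w : W6) : F.rho (t * y * t⁻¹) w = F.rho y w := by
  obtain ⟨v, m, hv, hm, rfl⟩ := fixed_split w
  rw [F.rho_add (F.conj_CW T hy.1), F.rho_add hy.1, (F.isY_conj T hy).2 v hv, hy.2 v hv]
  congr 1
  calc F.rho (t * y * t⁻¹) m = F.rho (t * y * t⁻¹) (F.tau T m) := by rw [F.tau_eq_id T hm]
    _ = F.rho y m := by rw [F.tau_rho T hy.1, F.tau_eq_id T (F.rho_inM hy hm)]

theorem exists_fixed_a6 : ∃ y, F.IsY y ∧ (∀ w, F.rho y w = a6 w) ∧ y * t = t * y := by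
  obtain ⟨y, hy, hry⟩ := F.exists_a6 T
  have : Fact (Nat.Prime 3) := ⟨by norm_num⟩
  obtain ⟨r, hr, e⟩ := exists_coset_fixed (p := 3) (n := a) F.X t t y (fun r hr => F.X_conj T hr)
    (F.mem_X.2 ⟨mul_mem (F.conj_CW T hy.1) (inv_mem hy.1), fun w => by
      rw [F.rho_mul (F.conj_CW T hy.1) (inv_mem hy.1), F.rho_conj T hy,
        ← F.rho_mul hy.1 (inv_mem hy.1), mul_inv_cancel, F.rho_one]⟩)
    T.pow T.pow F.three_not_dvd_X
  obtain ⟨h1, h2⟩ := F.mem_X.1 hr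
  exact ⟨r * y, F.isY_mul ⟨h1, fun w _ => h2 w⟩ hy, fun w => by
    rw [F.rho_mul h1 hy.1, h2, hry], e.symm⟩

/-- The two other maps. -/
noncomputable def psi (_T : Cyc z s f t a) (v : W6) : W6 :=
  F.P.alpha (t * F.P.lift v * t⁻¹)

theorem mem_CW_lift (v : W6) : F.P.lift v ∈ F.CW :=
  F.mem_CW.2 ⟨F.P.lift_comm v, F.P.gs.le_cent _ (F.P.lift_mem v)⟩

theorem psi_eq {b : G} (hb : b ∈ Qf s) (hbz : b * z = z * b) :
    F.P.alpha (t * b * t⁻¹) = F.psi T (F.P.alpha b) := by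
  have h1 := F.P.lift_mem (F.P.alpha b)
  have h2 := F.P.lift_comm (F.P.alpha b)
  set b₀ := F.P.lift (F.P.alpha b) with hb₀
  have hi : b₀⁻¹ * z = z * b₀⁻¹ := (Commute.inv_left h2 :)
  have h0 : InP z s (b₀⁻¹ * b) := F.P.mem_of_alpha_eq_zero (mul_mem (inv_mem h1) hb)
    (Commute.mul_left hi hbz :) (by
      rw [F.P.alpha_mul (inv_mem h1) hi hb hbz, F.P.alpha_inv h1 h2, hb₀, F.P.alpha_lift,
        Co1Type47.add_self_w])
  have hW : t * b₀ * t⁻¹ ∈ F.CW := F.conj_CW T (F.mem_CW_lift T _)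
  have hW' : t * (b₀⁻¹ * b) * t⁻¹ ∈ F.CW :=
    F.conj_CW T (mul_mem (inv_mem (F.mem_CW_lift T _)) (F.mem_CW.2 ⟨hbz, F.P.gs.le_cent b hb⟩))
  show _ = F.P.alpha (t * b₀ * t⁻¹)
  rw [show t * b * t⁻¹ = (t * b₀ * t⁻¹) * (t * (b₀⁻¹ * b) * t⁻¹) by group, F.alpha_mul hW hW',
    F.P.alpha_eq_zero (F.conj_inP T h0)]
  have h0' : F.rho (t * b₀ * t⁻¹) 0 = 0 := by
    have := F.rho_add hW 0 0
    rw [add_zero] at this
    exact left_eq_add.1 this
  rw [h0', add_zero]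

theorem X_of_B {b : G} (hb : b ∈ Qf s) (hbz : b * z = z * b) : b ∈ F.X :=
  F.mem_X.2 ⟨F.mem_CW.2 ⟨hbz, F.P.gs.le_cent b hb⟩, F.rho_B hb hbz⟩

theorem X_of_Q {q : G} (hq : q ∈ Qf z) (hqs : q * s = s * q) : q ∈ F.X :=
  F.mem_X.2 ⟨F.mem_CW.2 ⟨F.P.gz.le_cent q hq, hqs⟩, F.rho_of_mem hq⟩

theorem alpha_mul_X {x y : G} (hx : x ∈ F.X) (hy : y ∈ F.X) :
    F.P.alpha (x * y) = F.P.alpha x + F.P.alpha y := by
  rw [F.alpha_mul (F.mem_X.1 hx).1 (F.mem_X.1 hy).1, (F.mem_X.1 hx).2]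

/-- A map commuting with `f6` and `a6` on the moved space, not zero there, is the identity there. -/
theorem proj_eq_of_comm {L : W6 → W6} (hadd : ∀ u v, L (u + v) = L u + L v)
    (hcf : ∀ v, L (f6 v) = f6 (L v)) (hca : ∀ v, L (a6 v) = a6 (L v))
    (hinj : ∀ v, L v = 0 → v = 0) (v : W6) : projM (L v) = projM v := by
  obtain ⟨y, hy, hry⟩ := F.exists_a6 T
  have hpa : ∀ w, projM (a6 w) = a6 (projM w) := fun w => by rw [← hry, ← hry, F.projM_rho hy]
  have hpf : ∀ w, projM (f6 w) = f6 (projM w) := fun w => (a6_facts w).2.2.2.1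
  set w := projM (L (sM 0)) with hw
  have hstep : ∀ i, projM (L (sM (i + 1))) = f6 (projM (L (sM i))) := fun i => by
    rw [← f6_sM, hcf, hpf]
  have h1 : projM (L (sM 1)) = f6 w := hstep 0
  have h2 : projM (L (sM 2)) = f6 (f6 w) := by rw [← h1]; exact hstep 1
  have h3 : projM (L (sM 3)) = f6 (f6 (f6 w)) := by rw [← h2]; exact hstep 2
  have ha : ∀ i, a6 (projM (L (sM i))) = projM (L (sM (![1, 2, 0, 3, 4] i))) := fun i => by
    rw [← hpa, ← hca, a6_sM]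
  have hw0 : w = sM 0 := by
    refine (commutant w (projM_facts _).1 ⟨(ha 0).trans h1, ?_, ?_⟩ ?_).resolve_left fun e => ?_
    · rw [← h2, ← h1]; exact ha 1
    · rw [← h2]; exact ha 2
    · rw [← h3]; exact ha 3
    · have hfix : f6 (L (sM 0)) = L (sM 0) := by
        have := (projM_facts (L (sM 0))).2.2.1
        rwa [← hw, e, add_zero] at this
      rw [← hcf, f6_sM, show (0 : Fin 5) + 1 = 1 from rfl] at hfix
      have h01 : L (sM 1 + sM 0) = 0 := by rw [hadd, hfix, Co1Type47.add_self_w]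
      have := hinj _ h01
      exact absurd (sM_inj 1 0 (by
        rw [← add_zero (sM 1), ← Co1Type47.add_self_w (sM 0), ← add_assoc, this, zero_add]))
        (by decide)
  obtain ⟨u, m, hu, hm, rfl⟩ := fixed_split v
  have hLu : projM (L u) = 0 := (projM_facts _).2.2.2 (by rw [← hcf, hu])
  rw [hadd, projM_add, projM_add, hLu, (projM_facts u).2.2.2 hu]
  congr 1
  exact eq_of_comm (L := fun x => projM (L x)) (L' := projM)
    (fun x x' => by simp only [hadd, projM_add]) projM_add (fun x => by simp only [hcf, hpf]) hpf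
    (by show w = _; rw [hw0, (projM_facts _).2.1 (sM_facts 0).1]) hm

theorem proj_psi (v : W6) : projM (F.psi T v) = projM v := by
  obtain ⟨y, hy, hry, hyt⟩ := F.exists_fixed_a6 T
  have hB : ∀ v, F.P.lift v ∈ F.X := fun v => F.X_of_B T (F.P.lift_mem v) (F.P.lift_comm v)
  have hequiv : ∀ {x : G}, x ∈ F.CW → (∀ w, F.rho (t * x * t⁻¹) w = F.rho x w) →
      ∀ v, F.psi T (F.rho x v) = F.rho x (F.psi T v) := by
    intro x hx hxr v
    obtain ⟨k1, k2⟩ := F.mem_CW.1 hx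
    have hc : x * F.P.lift v * x⁻¹ * z = z * (x * F.P.lift v * x⁻¹) :=
      (Commute.mul_left (Commute.mul_left k1 (F.P.lift_comm v)) (Commute.inv_left k1) :)
    have e := F.psi_eq T (F.P.gs.norm x k2 _ (F.P.lift_mem v)) hc
    rw [F.alpha_conj' hx (F.mem_X.1 (hB v)).1 (F.mem_X.1 (hB v)).2, F.P.alpha_lift] at e
    rw [← e, show t * (x * F.P.lift v * x⁻¹) * t⁻¹
        = (t * x * t⁻¹) * (t * F.P.lift v * t⁻¹) * (t * x * t⁻¹)⁻¹ by group,
      F.alpha_conj' (F.conj_CW T hx) (F.conj_CW T (F.mem_X.1 (hB v)).1)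
        (F.mem_X.1 (F.X_conj T (hB v))).2, hxr]
    rfl
  refine F.proj_eq_of_comm T (fun u w => ?_) (fun u => ?_) (fun u => ?_) (fun u hu => ?_) v
  · have e := F.psi_eq T (mul_mem (F.P.lift_mem u) (F.P.lift_mem w))
      (Commute.mul_left (F.P.lift_comm u) (F.P.lift_comm w) :)
    rw [F.P.alpha_mul (F.P.lift_mem u) (F.P.lift_comm u) (F.P.lift_mem w) (F.P.lift_comm w),
      F.P.alpha_lift, F.P.alpha_lift] at e
    rw [← e, show t * (F.P.lift u * F.P.lift w) * t⁻¹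
      = (t * F.P.lift u * t⁻¹) * (t * F.P.lift w * t⁻¹) by group,
      F.alpha_mul_X T (F.X_conj T (hB u)) (F.X_conj T (hB w))]
    rfl
  · rw [← F.rho_f, ← F.rho_f]
    exact hequiv F.f_mem (F.rho_conj T F.isY_f) u
  · rw [← hry, ← hry]
    exact hequiv hy.1 (F.rho_conj T hy) u
  · obtain ⟨h1, h2⟩ := F.mem_X.1 (F.X_conj T (hB u))
    have hz' := F.mem_Qz_of h1 h2 hu
    have hs' : t * F.P.lift u * t⁻¹ ∈ Qf (s * z) := F.conj_core_s T (F.P.lift_mem u)
    have k1 : t * (t * F.P.lift u * t⁻¹) * t⁻¹ ∈ Qf s := F.conj_core_z T hz'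
    have k2 : t * (t * F.P.lift u * t⁻¹) * t⁻¹ ∈ Qf z := F.conj_core_sz T hs'
    have hP := F.P.inP_of_both k2 k1
    obtain ⟨n, hn⟩ : ∃ n, t⁻¹ = t ^ n := ⟨3 ^ a - 1, by
      refine inv_eq_of_mul_eq_one_right ?_
      rw [← pow_succ', Nat.sub_add_cancel (Nat.one_le_pow _ _ (by norm_num)), T.pow]⟩
    have hback : ∀ {d : G}, InP z s d → InP z s (t⁻¹ * d * t) := fun {d} hd => by
      have key : ∀ m : ℕ, InP z s (t ^ m * d * (t ^ m)⁻¹) := by
        intro m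
        induction m with
        | zero => simpa using hd
        | succ m ih =>
          have := F.conj_inP T ih
          rwa [show t * (t ^ m * d * (t ^ m)⁻¹) * t⁻¹ = t ^ (m + 1) * d * (t ^ (m + 1))⁻¹ by
            rw [pow_succ']; group] at this
      have := key n
      rwa [← hn, inv_inv] at this
    have hl := hback (hback hP)
    rw [show t⁻¹ * (t⁻¹ * (t * (t * F.P.lift u * t⁻¹) * t⁻¹) * t) * t = F.P.lift u by group] at hl
    rw [← F.P.alpha_lift u, F.P.alpha_eq_zero hl]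

theorem proj_theta {q : G} (hq : q ∈ Qf z) (hqs : q * s = s * q) :
    projM (F.P.alpha (t * (t * q * t⁻¹) * t⁻¹)) = projM (F.P.wPart q) := by
  obtain ⟨a1, b1⟩ := F.conj_Qs T hq hqs
  rw [F.psi_eq T a1 b1, F.proj_psi T, F.tau_eq T hq hqs]
  obtain ⟨u, m, hu, hm, e⟩ := fixed_split (F.P.wPart q)
  have hu' : f6 (F.tau T u) = F.tau T u := by rw [← F.tau_f6 T, hu]
  rw [e, F.tau_add T, projM_add, projM_add, (projM_facts _).2.2.2 hu', (projM_facts u).2.2.2 hu,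
    F.tau_eq_id T hm]

theorem proj_alpha_eq_zero {x : G} (hx : x ∈ F.X) (hxt : x * t = t * x) :
    projM (F.P.alpha x) = 0 := by
  obtain ⟨hxW, hr⟩ := F.mem_X.1 hx
  set b := F.P.lift (F.P.alpha x) with hb
  have hbs := F.P.lift_mem (F.P.alpha x)
  have hbz := F.P.lift_comm (F.P.alpha x)
  have hbX : b ∈ F.X := F.X_of_B T hbs hbz
  set q := b⁻¹ * x with hq'
  have hqX : q ∈ F.X := mul_mem (inv_mem hbX) hx
  have hqa : F.P.alpha q = 0 := by
    have := F.alpha_mul_X T hbX hqX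
    rw [hq', mul_inv_cancel_left, hb, F.P.alpha_lift] at this
    exact (left_eq_add.1 this)
  obtain ⟨hqW, hqr⟩ := F.mem_X.1 hqX
  have hq : q ∈ Qf z := F.mem_Qz_of hqW hqr hqa
  have hqs := (F.mem_CW.1 hqW).2
  have hconj : t * x * t⁻¹ = x := mul_inv_eq_iff_eq_mul.2 hxt.symm
  have e1 : F.P.alpha x = F.psi T (F.P.alpha x) + F.tau T (F.P.wPart q) := by
    conv_lhs => rw [← hconj]
    rw [show t * x * t⁻¹ = (t * b * t⁻¹) * (t * q * t⁻¹) by rw [hq']; group,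
      F.alpha_mul_X T (F.X_conj T hbX) (F.X_conj T hqX), F.psi_eq T hbs hbz, F.tau_eq T hq hqs,
      F.P.alpha_lift]
  have h2 : t * (t * b * t⁻¹) * t⁻¹ ∈ Qf z := F.conj_core_sz T (F.conj_core_s T hbs)
  have e2 : F.P.alpha x = F.P.alpha (t * (t * q * t⁻¹) * t⁻¹) := by
    conv_lhs => rw [← hconj, ← hconj]
    rw [show t * (t * x * t⁻¹) * t⁻¹
        = (t * (t * b * t⁻¹) * t⁻¹) * (t * (t * q * t⁻¹) * t⁻¹) by rw [hq']; group,
      F.alpha_mul_X T (F.X_conj T (F.X_conj T hbX)) (F.X_conj T (F.X_conj T hqX)),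
      Pair.alpha, F.P.D.act_of_mem F.P.gz h2]
    show (f₀ : V8).2.2 + _ = _
    simp [f₀]
  obtain ⟨u, m, hu, hm, e⟩ := fixed_split (F.P.wPart q)
  have htau : projM (F.tau T (F.P.wPart q)) = projM (F.P.wPart q) := by
    have hu' : f6 (F.tau T u) = F.tau T u := by rw [← F.tau_f6 T, hu]
    rw [e, F.tau_add T, projM_add, projM_add, (projM_facts _).2.2.2 hu', (projM_facts u).2.2.2 hu,
      F.tau_eq_id T hm]
  have k1 := congrArg projM e1
  rw [projM_add, F.proj_psi T, htau] at k1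
  have k2 := congrArg projM e2
  rw [F.proj_theta T hq hqs, left_eq_add.1 k1] at k2
  exact k2

/-- An element centralising `t` acting as `a8`. -/
theorem exists_a8 : ∃ y, y * z = z * y ∧ y * t = t * y ∧ ∀ v, F.P.D.act y v = a8 v := by
  obtain ⟨y, hy, hry, hyt⟩ := F.exists_fixed_a6 T
  have hft : f * t = t * f := T.hf.symm
  set m := projM (F.P.alpha y) with hm
  have hc : ∀ {u v : G}, F.IsY u → F.IsY v →
      projM (F.P.alpha (u * v)) = projM (F.P.alpha u) + F.rho u (projM (F.P.alpha v)) :=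
    fun {u v} hu hv => by rw [F.alpha_mul hu.1 hv.1, projM_add, F.projM_rho hu]
  have hcf : projM (F.P.alpha f) = 0 := by
    have : F.P.alpha f = 0 := by rw [Pair.alpha, F.hact]; decide
    rw [this]; decide
  have hy2 := F.isY_mul hy hy
  have hy3 := F.isY_mul hy hy2
  have hy3X : y * (y * y) ∈ F.X := F.mem_X.2 ⟨hy3.1, fun w => by
    rw [F.rho_mul hy.1 hy2.1, F.rho_mul hy.1 hy.1, hry, hry, hry, (a6_facts w).2.2.2.2.1]⟩
  have c1 := F.proj_alpha_eq_zero T hy3X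
    (Commute.mul_left hyt (Commute.mul_left hyt hyt) :)
  rw [hc hy hy2, hc hy hy, hry, hry, ← hm] at c1
  have hff := F.isY_mul F.isY_f F.isY_f
  have hr2 : ∀ w, F.rho (f * f) w = f6 (f6 w) := fun w => by
    rw [F.rho_mul F.f_mem F.f_mem, F.rho_f, F.rho_f]
  have hu := F.isY_mul hff hy
  have huX : (f * f * y) * (f * f * y) ∈ F.X := F.mem_X.2 ⟨mul_mem hu.1 hu.1, fun w => by
    simp only [F.rho_mul hu.1 hu.1, F.rho_mul hff.1 hy.1, hr2, hry, (a6_facts w).2.2.2.2.2]⟩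
  have hut : f * f * y * t = t * (f * f * y) :=
    (Commute.mul_left (Commute.mul_left hft hft) hyt :)
  have c2 := F.proj_alpha_eq_zero T huX (Commute.mul_left hut hut :)
  have hcff : projM (F.P.alpha (f * f)) = 0 := by
    rw [hc F.isY_f F.isY_f, hcf, F.rho_f]; decide
  rw [hc hu hu, hc hff hy, hcff, zero_add, F.rho_mul hff.1 hy.1, hr2, hr2, hry, ← hm] at c2
  have hm0 : m = 0 := cocycle_zero m (projM_facts _).1 (by rw [← c1, a6_add, add_assoc])
    c2
  -- the fourth power acts exactly as `a8`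
  have hatT : a6 (F.P.alpha y) = F.P.alpha y := by
    refine (a6_facts _).2.2.1 ?_
    have h := (projM_facts (F.P.alpha y)).2.2.1
    rwa [← hm, hm0, add_zero] at h
  refine ⟨y * y * (y * y), (F.mem_CW.1 (mul_mem hy2.1 hy2.1)).1,
    (Commute.mul_left (Commute.mul_left hyt hyt) (Commute.mul_left hyt hyt) :), ?_⟩
  have hW := mul_mem hy2.1 hy2.1
  have hWz := (F.mem_CW.1 hW).1
  have hr4 : ∀ w, F.rho (y * y * (y * y)) w = a6 w := fun w => by
    rw [F.rho_mul hy2.1 hy2.1, F.rho_mul hy.1 hy.1, F.rho_mul hy.1 hy.1, hry, hry, hry, hry]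
    rw [(a6_facts _).2.2.2.2.1]
  have hal : F.P.alpha (y * y * (y * y)) = 0 := by
    rw [F.alpha_mul hy2.1 hy2.1, F.alpha_mul hy.1 hy.1, hry, hatT, Co1Type47.add_self_w, zero_add]
    have := F.rho_add hy2.1 0 0
    rw [add_zero] at this
    exact left_eq_add.1 this
  have hf0 : F.P.D.act (y * y * (y * y)) f₀ = f₀ := by
    have h1 : (F.P.D.act (y * y * (y * y)) f₀).2.1 = 1 := F.act_snd hW f₀
    have h2 : (F.P.D.act (y * y * (y * y)) f₀).2.2 = 0 := hal
    have h3 := F.P.D.act_iso _ hWz f₀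
    rw [qV, h1, h2, mul_one, show qW (0 : W6) = 0 from rfl, add_zero, show qV f₀ = 0 by decide] at h3
    exact Prod.ext h3 (Prod.ext h1 h2)
  have hemb : ∀ w, F.P.D.act (y * y * (y * y)) (emb w) = a8 (emb w) := fun w => by
    rw [(a6_facts w).1]
    have h1 : (F.P.D.act (y * y * (y * y)) (emb w)).2.1 = 0 := F.act_snd hW _
    have h2 : (F.P.D.act (y * y * (y * y)) (emb w)).2.2 = a6 w := hr4 w
    have h3 := F.P.D.act_bil F.P.gz hWz (emb w) f₀
    rw [hf0] at h3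
    have h4 : (F.P.D.act (y * y * (y * y)) (emb w)).1 = 0 := by
      simpa [bV, f₀, emb, bW, bH] using h3
    exact Prod.ext h4 (Prod.ext h1 h2)
  intro v
  have e : v = v.1 • e₀ + v.2.1 • f₀ + emb v.2.2 := by simp [e₀, f₀, emb]
  have hs' : ∀ (k : ZMod 2) (u : V8), F.P.D.act (y * y * (y * y)) u = a8 u →
      F.P.D.act (y * y * (y * y)) (k • u) = a8 (k • u) := fun k u hu => by
    rcases zmod_cases k with rfl | rfl
    · rw [zero_smul, F.act_zero hWz]; decide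
    · rw [one_smul, hu]
  have ha8 : ∀ u v, a8 (u + v) = a8 u + a8 v := fun u v => by
    rw [a8, a8, a8, Co1Type47.refl_add, Co1Type47.refl_add]
  rw [e, F.act_add hWz, F.act_add hWz, hemb, hs' _ _ (by rw [F.act_e₀ hW, a8_facts.1]),
    hs' _ _ (by rw [hf0, a8_facts.2.1]), ha8, ha8]

end Cycle

end Frame

end Cfsg.Agent.Lib.CoTypeB85
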