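import Cfsg.Agent.Lib.CoTypeB85.Assembly
import Cfsg.Agent.Lib.CoType29.Interface

/-!
The configuration from the hypotheses: a subgroup of order 5 of `C(z)` with fixed points of minus
type on `Q` (written by helper85).
-/

set_option autoImplicit false
set_option synthInstance.maxSize 1000
set_option synthInstance.maxHeartbeats 200000

namespace Cfsg.Agent.Lib.CoTypeB85

open Co1Type47

variable {G : Type*} [Group G] [Finite G]

/-- Commutation from fixed coordinates, for any coordinates. -/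
theorem comm_of_fixed {z f : G} {R : Subgroup G} (hR : LargeExtra.Good R z) (D : Data z R)
    (hfz : f * z = z * f) (hf5 : f ^ 5 = 1) {q : G} (hq : q ∈ R)
    (h : D.act f (D.phi q) = D.phi q) : q * f = f * q := by
  have h1 : D.phi (f * q * f⁻¹) = D.phi q := by rw [D.act_phi f hfz q hq, h]
  rcases D.eq_or_of_phi_eq hR (hR.norm f hfz q hq) hq h1 with e | e
  · exact (mul_inv_eq_iff_eq_mul.1 e).symm
  · exfalso
    have h2 : f * (q * z) * f⁻¹ = q := by
      calc f * (q * z) * f⁻¹ = (f * q * f⁻¹) * (f * z * f⁻¹) := by group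
        _ = q * z * z := by rw [e, hfz, mul_inv_cancel_right]
        _ = q := by rw [mul_assoc, hR.x_sq, mul_one]
    have h5 : f ^ 5 * q * (f ^ 5)⁻¹ = q * z := by
      calc f ^ 5 * q * (f ^ 5)⁻¹
          = f * (f * (f * (f * (f * q * f⁻¹) * f⁻¹) * f⁻¹) * f⁻¹) * f⁻¹ := by
            simp only [pow_succ, pow_zero, one_mul, mul_inv_rev, mul_assoc]
        _ = q * z := by rw [e, h2, e, h2, e]
    rw [hf5, one_mul, inv_one, mul_one] at h5
    exact hR.x_ne (by simpa using h5.symm)

/-- The frame and the cycling element exist. -/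
theorem exists_frame {z f : G} {Qf : G → Subgroup G} (H : Hyp z Qf) (hfz : f * z = z * f)
    (hf5 : f ^ 5 = 1) (hf1 : f ≠ 1)
    (hfix : Nat.card ↥(Qf z ⊓ Subgroup.centralizer {f}) = 32)
    (hno : ∀ a ∈ Qf z, ∀ b ∈ Qf z, a * f = f * a → b * f = f * b → a * a = 1 → b * b = 1 →
      a * b = b * a → a = 1 ∨ a = z ∨ b = 1 ∨ b = z ∨ a = b ∨ a = b * z) :
    ∃ s, Nonempty (Frame z s f Qf) := by
  obtain ⟨D⟩ := H.data
  have hR := H.good
  have hadd := D.act_add hfz (fun a ha => hR.norm f hfz a ha)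
  have hiff : ∀ q ∈ Qf z, q * f = f * q ↔ D.act f (D.phi q) = D.phi q := fun q hq => by
    refine ⟨fun h => ?_, comm_of_fixed hR D hfz hf5 hq⟩
    rw [← D.act_phi f hfz q hq, ← h, mul_inv_cancel_right]
  have hg : Five (D.act f) := by
    refine ⟨hadd, D.act_iso f hfz, fun v => ?_, ?_, fun a b ha hb ha0 hb0 hab qa qb hb' => ?_⟩
    · have hp : ∀ n : ℕ, f ^ n * z = z * f ^ n := fun n => (Commute.pow_left hfz n :)
      conv_rhs => rw [← D.act_one hR v, ← hf5]
      simp only [pow_succ, pow_zero, one_mul]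
      rw [D.act_mul hR (by simpa [pow_succ] using hp 4) hfz,
        D.act_mul hR (by simpa [pow_succ] using hp 3) hfz,
        D.act_mul hR (by simpa [pow_succ] using hp 2) hfz, D.act_mul hR hfz hfz]
    · let φ : ↥(Qf z ⊓ Subgroup.centralizer {f}) →* Multiplicative V8 :=
        { toFun := fun q => Multiplicative.ofAdd (D.phi q)
          map_one' := by simp [D.phi_one hR]
          map_mul' := fun p q => by
            rw [← ofAdd_add, ← D.phi_mul _ (Subgroup.mem_inf.1 p.2).1 _ (Subgroup.mem_inf.1 q.2).1]; rfl }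
      have h1 := φ.ker.card_mul_index
      rw [hfix, Subgroup.index_ker] at h1
      have h2 : Nat.card ↥φ.ker = 2 := by
        have hz : z ∈ Qf z ⊓ Subgroup.centralizer {f} := Subgroup.mem_inf.2
          ⟨hR.x_mem, Subgroup.mem_centralizer_singleton_iff.2 hfz.symm⟩
        refine (Nat.card_eq_two_iff).2 ⟨1, ⟨⟨z, hz⟩, D.phi_z hR⟩, fun e => hR.x_ne
          (congrArg (fun q : ↥φ.ker => ((q : ↥(Qf z ⊓ Subgroup.centralizer {f})) : G)) e).symm,
          Set.eq_univ_of_forall fun q => ?_⟩
        rcases (D.phi_eq_zero _ (Subgroup.mem_inf.1 q.1.2).1).1 (show D.phi q.1 = 0 from q.2) with e | e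
        · exact Or.inl (Subtype.ext (Subtype.ext e))
        · exact Or.inr (Subtype.ext (Subtype.ext e))
      have h3 : Nat.card ↥φ.range = Nat.card {v : V8 // D.act f v = v} := by
        refine Nat.card_congr (Equiv.subtypeEquiv Multiplicative.toAdd fun v => ?_)
        constructor
        · rintro ⟨q, rfl⟩
          exact (hiff _ (Subgroup.mem_inf.1 q.2).1).1
            (Subgroup.mem_centralizer_singleton_iff.1 (Subgroup.mem_inf.1 q.2).2)
        · intro hv
          obtain ⟨q, hq, e⟩ := D.phi_surj (Multiplicative.toAdd v)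
          exact ⟨⟨q, Subgroup.mem_inf.2 ⟨hq, Subgroup.mem_centralizer_singleton_iff.2
            ((hiff q hq).2 (by rw [e]; exact hv))⟩⟩, Multiplicative.toAdd.injective e⟩
      rw [h2, h3] at h1
      omega
    · obtain ⟨p, hp, rfl⟩ := D.phi_surj a
      obtain ⟨q, hq, rfl⟩ := D.phi_surj b
      rcases hno p hp q hq ((hiff p hp).2 ha) ((hiff q hq).2 hb) ((D.sq_iff p hp).2 qa)
        ((D.sq_iff q hq).2 qb) ((D.comm_iff p hp q hq).2 hb') with e | e | e | e | e | e
      · exact ha0 (by rw [e, D.phi_one hR])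
      · exact ha0 (by rw [e, D.phi_z hR])
      · exact hb0 (by rw [e, D.phi_one hR])
      · exact hb0 (by rw [e, D.phi_z hR])
      · exact hab (by rw [e])
      · exact hab (by rw [e, D.phi_mul_z hR hq])
  obtain ⟨h, hh⟩ := hg.exists_normal
  set D' := D.recoord h with hD'
  have hact : ∀ v, D'.act f v = f8 v := fun v => by
    show h.map (D.act f (h.map.symm v)) = _
    rw [hh, AddEquiv.apply_symm_apply]
  obtain ⟨s, hs, hse⟩ := D'.phi_surj e₀
  have hfs : f * s = s * f := (comm_of_fixed hR D' hfz hf5 hs (by rw [hse, hact]; decide)).symm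
  obtain ⟨-, P, hP⟩ := H.pair_of (IsConj.refl z) D' hs hse
  exact ⟨s, ⟨⟨H, P, hf5, hf1, hfz, hfs, fun v => by rw [hP]; exact hact v⟩⟩⟩

end Cfsg.Agent.Lib.CoTypeB85
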