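import Cfsg.Agent.Lib.CoTypeB85.Local
import Cfsg.Agent.Lib.CoType29.DistinctTyped

/-!
A second centre `s` fixed by `f`, and an element of `C(f)` cycling `z, s, sz` (written by helper85).
-/

set_option autoImplicit false
set_option linter.unusedSectionVars false
set_option synthInstance.maxSize 1000
set_option synthInstance.maxHeartbeats 200000

namespace Cfsg.Agent.Lib.CoTypeB85

open Co1Type47

/-- The configuration with a second centre. -/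
structure Frame {G : Type*} [Group G] (z s f : G) (Qf : G → Subgroup G) where
  H : Hyp z Qf
  P : Pair z s Qf
  hf5 : f ^ 5 = 1
  hf1 : f ≠ 1
  hfz : f * z = z * f
  hfs : f * s = s * f
  hact : ∀ v, P.D.act f v = f8 v

theorem perm_five_fix : ∀ σ : Equiv.Perm (Fin 5), σ ^ 5 = 1 → σ 0 = 0 → σ = 1 := by decide +kernel

theorem two_pow_inverse : ∀ k : Fin 5, k ≠ 0 → ∃ j : Fin 4, k.val * 2 ^ j.val % 5 = 1 := by
  decide +kernel

theorem d8_data : qV (emb (sM 1 + sM 2)) = 1 ∧ qV (emb (sM 2 + sM 4)) = 1 ∧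
    qV (emb (sM 4 + sM 3)) = 1 ∧ qV (emb (repA 1)) = 1 := by decide

namespace Frame

variable {G : Type*} [Group G] [Finite G] {z s f : G} {Qf : G → Subgroup G} (F : Frame z s f Qf)
include F

/-- The underlying configuration. -/
def conf : Conf z f Qf where
  H := F.H
  D := F.P.D
  hf5 := F.hf5
  hf1 := F.hf1
  hfz := F.hfz
  hact := F.hact

theorem act_add {x : G} (hx : x * z = z * x) (u v : V8) :
    F.P.D.act x (u + v) = F.P.D.act x u + F.P.D.act x v := F.conf.act_add hx u v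

theorem act_zero {x : G} (hx : x * z = z * x) : F.P.D.act x 0 = 0 := F.P.D.act_zero F.P.gz hx

/-- `C(z) ∩ C(s)`. -/
def CW (_F : Frame z s f Qf) : Subgroup G := Subgroup.centralizer {z, s}

theorem mem_CW {x : G} : x ∈ F.CW ↔ x * z = z * x ∧ x * s = s * x := by
  rw [CW, Subgroup.mem_centralizer_iff]
  constructor
  · intro h
    exact ⟨(h z (Set.mem_insert _ _)).symm, (h s (Set.mem_insert_of_mem _ rfl)).symm⟩
  · rintro ⟨h1, h2⟩ y (rfl | rfl)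
    exacts [h1.symm, h2.symm]

theorem f_mem : f ∈ F.CW := F.mem_CW.2 ⟨F.hfz, F.hfs⟩

theorem act_e₀ {x : G} (hx : x ∈ F.CW) : F.P.D.act x e₀ = e₀ := by
  obtain ⟨h1, h2⟩ := F.mem_CW.1 hx
  rw [← F.P.phi_s, ← F.P.D.act_phi x h1 s F.P.s_mem, h2, mul_inv_cancel_right]

theorem act_snd {x : G} (hx : x ∈ F.CW) (v : V8) : (F.P.D.act x v).2.1 = v.2.1 := by
  rw [← bV_e₀, ← bV_e₀ v]
  conv_lhs => rw [← F.act_e₀ hx]
  exact F.P.D.act_bil F.P.gz (F.mem_CW.1 hx).1 _ _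

/-- The action on `e₀^⊥/e₀`. -/
def rho (x : G) (w : W6) : W6 := (F.P.D.act x (emb w)).2.2

theorem act_orth {x : G} (hx : x ∈ F.CW) {v : V8} (hv : v.2.1 = 0) :
    (F.P.D.act x v).2.2 = F.rho x v.2.2 := by
  have e : v = v.1 • e₀ + emb v.2.2 := by
    rcases zmod_cases v.1 with h | h <;> simp [h, e₀, emb, hv, Prod.ext_iff]
  conv_lhs => rw [e]
  have hxz := (F.mem_CW.1 hx).1
  rw [F.act_add hxz]
  rcases zmod_cases v.1 with h | h <;> rw [h]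
  · rw [zero_smul, F.act_zero hxz, zero_add]; rfl
  · rw [one_smul]
    show ((F.P.D.act x e₀) + F.P.D.act x (emb v.2.2)).2.2 = _
    rw [F.act_e₀ hx]
    simp [e₀, rho]

theorem rho_add {x : G} (hx : x ∈ F.CW) (u w : W6) : F.rho x (u + w) = F.rho x u + F.rho x w := by
  rw [rho, emb_add, F.act_add (F.mem_CW.1 hx).1]; rfl

theorem rho_mul {x y : G} (hx : x ∈ F.CW) (hy : y ∈ F.CW) (w : W6) :
    F.rho (x * y) w = F.rho x (F.rho y w) := by
  rw [rho, F.P.D.act_mul F.P.gz (F.mem_CW.1 hx).1 (F.mem_CW.1 hy).1,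
    F.act_orth hx (by rw [F.act_snd hy]; rfl)]
  rfl

theorem rho_one (w : W6) : F.rho 1 w = w := by simp [rho, F.P.D.act_one F.P.gz, emb]

theorem rho_f (w : W6) : F.rho f w = f6 w := by rw [rho, F.hact]; rfl

theorem rho_iso {x : G} (hx : x ∈ F.CW) (w : W6) : qW (F.rho x w) = qW w := by
  have h := F.P.D.act_iso x (F.mem_CW.1 hx).1 (emb w)
  have h2 : (F.P.D.act x (emb w)).2.1 = 0 := F.act_snd hx _
  rw [qV, qV, h2] at h
  simpa [rho, emb] using h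

theorem rho_bW {x : G} (hx : x ∈ F.CW) (u w : W6) : bW (F.rho x u) (F.rho x w) = bW u w := by
  have h := F.rho_iso hx (u + w)
  rw [F.rho_add hx, qW_add, qW_add, F.rho_iso hx, F.rho_iso hx] at h
  exact add_left_cancel h

theorem rho_inj {x : G} (hx : x ∈ F.CW) {u w : W6} (h : F.rho x u = F.rho x w) : u = w := by
  have := congrArg (F.rho x⁻¹) h
  rwa [← F.rho_mul (inv_mem hx) hx, ← F.rho_mul (inv_mem hx) hx, inv_mul_cancel, F.rho_one,
    F.rho_one] at this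

/-- Coordinates of a conjugate. -/
theorem wPart_conj {x q : G} (hx : x ∈ F.CW) (hq : q ∈ Qf z) (hqs : q * s = s * q) :
    F.P.wPart (x * q * x⁻¹) = F.rho x (F.P.wPart q) := by
  rw [Pair.wPart, F.P.D.act_phi x (F.mem_CW.1 hx).1 q hq, F.act_orth hx ((F.P.commute_s hq).1 hqs)]
  rfl

/-- The Siegel cocycle. -/
theorem alpha_mul {x y : G} (hx : x ∈ F.CW) (hy : y ∈ F.CW) :
    F.P.alpha (x * y) = F.P.alpha x + F.rho x (F.P.alpha y) := by
  have hxz := (F.mem_CW.1 hx).1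
  rw [Pair.alpha, F.P.D.act_mul F.P.gz hxz (F.mem_CW.1 hy).1]
  have e : F.P.D.act y f₀ = f₀ + ((F.P.D.act y f₀).1, 0, F.P.alpha y) := by
    simp [f₀, Pair.alpha, Prod.ext_iff, show (F.P.D.act y (0, 1, 0)).2.1 = 1 from F.act_snd hy (0, 1, 0)]
  rw [e]
  rw [F.act_add hxz, Prod.snd_add, Prod.snd_add]
  rw [F.act_orth hx (v := ((F.P.D.act y f₀).1, 0, F.P.alpha y)) rfl]
  rfl

theorem alpha_one : F.P.alpha 1 = 0 := F.P.alpha_one

/-- A power of a prime-order element of `C(z, s)` commuting with `f` is a power of `f`. -/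
theorem eq_pow {x : G} (hx : x ∈ F.CW) (hxf : x * f = f * x) {k : ℕ} (hxk : x ^ 5 ^ k = 1) :
    x ∈ Subgroup.zpowers f := by
  obtain ⟨n, hn⟩ := F.conf.exists_pow_mul (F.mem_CW.1 hx).1 hxf
  set y := f ^ n * x with hy
  have hyk : y ^ 5 ^ (k + 1) = 1 := by
    rw [hy, (Commute.pow_left (show Commute f x from hxf.symm) n).mul_pow, ← pow_mul,
      show n * 5 ^ (k + 1) = 5 * (n * 5 ^ k) by ring, pow_mul, F.hf5, one_pow, one_mul,
      pow_succ, pow_mul, hxk, one_pow]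
  have hyW : y ∈ F.CW := mul_mem (pow_mem F.f_mem n) hx
  set σ := F.conf.pi ⟨y, hn⟩ with hσ
  have h0 : σ 0 = 0 := sF_inj _ _ ((F.conf.pi_spec ⟨y, hn⟩ 0).trans (F.act_e₀ hyW))
  have h5 : σ ^ 5 = 1 := by
    have h1 : σ ^ 5 ^ (k + 1) = 1 := by
      rw [hσ, ← map_pow]
      have : (⟨y, hn⟩ : ↥F.conf.K) ^ 5 ^ (k + 1) = 1 := Subtype.ext (by simpa using hyk)
      rw [this, map_one]
    have h2 : orderOf σ ∣ 120 := by
      have := orderOf_dvd_natCard σ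
      rw [Nat.card_perm, Nat.card_fin] at this
      exact this
    obtain ⟨j, hj, hj'⟩ := (Nat.dvd_prime_pow (by norm_num : Nat.Prime 5)).1
      (orderOf_dvd_of_pow_eq_one h1)
    refine orderOf_dvd_iff_pow_eq_one.1 ?_
    rw [hj'] at h2 ⊢
    rcases j with _ | _ | j
    · norm_num
    · norm_num
    · exfalso
      have : (25 : ℕ) ∣ 5 ^ (j + 1 + 1) := ⟨5 ^ j, by ring⟩
      have := this.trans h2
      norm_num at this
  have hker : (⟨y, hn⟩ : ↥F.conf.K) ∈ F.conf.pi.ker := perm_five_fix σ h5 h0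
  rw [F.conf.ker_pi, Subgroup.mem_subgroupOf] at hker
  have hy1 : y = 1 := by
    have h32 : orderOf y ∣ 32 := F.conf.card_Qfix ▸ Subgroup.orderOf_dvd_natCard _ hker
    have h25 := orderOf_dvd_of_pow_eq_one hyk
    refine orderOf_eq_one_iff.1 (Nat.eq_one_of_dvd_coprimes ?_ h32 h25)
    exact Nat.Coprime.pow_right _ (by norm_num)
  rw [show x = (f ^ n)⁻¹ from eq_inv_of_mul_eq_one_right hy1]
  exact inv_mem (Subgroup.npow_mem_zpowers f n)

theorem card_zpowers_f : Nat.card ↥(Subgroup.zpowers f) = 5 := by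
  rw [Nat.card_zpowers, F.conf.orderOf_f]

/-- The Sylow 5-subgroups of `C(z, s)` are the conjugates of `⟨f⟩`. -/
theorem exists_conj_mem {x : G} (hx : x ∈ F.CW) (hx5 : x ^ 5 = 1) :
    ∃ h ∈ F.CW, h * x * h⁻¹ ∈ Subgroup.zpowers f := by
  classical
  have : Fact (Nat.Prime 5) := ⟨by norm_num⟩
  let f' : ↥F.CW := ⟨f, F.f_mem⟩
  have hord : orderOf f' = 5 := by
    rw [← Subgroup.orderOf_coe]; exact F.conf.orderOf_f
  obtain ⟨U, hU⟩ := (IsPGroup.of_card (n := 1) (by rw [Nat.card_zpowers, hord, pow_one]) :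
    IsPGroup 5 ↥(Subgroup.zpowers f')).exists_le_sylow
  have hfU : f' ∈ (U : Subgroup ↥F.CW) := hU (Subgroup.mem_zpowers f')
  have hmem : ∀ u : ↥F.CW, u ∈ (U : Subgroup ↥F.CW) → (u : G) * f = f * u →
      (u : G) ∈ Subgroup.zpowers f := fun u hu hc => by
    obtain ⟨k, hk⟩ := U.isPGroup' ⟨u, hu⟩
    exact F.eq_pow u.2 hc (k := k) (by
      simpa using congrArg (fun v : ↥(U : Subgroup ↥F.CW) => ((v : ↥F.CW) : G)) hk)
  have hcentral : ∀ u : ↥F.CW, u ∈ (U : Subgroup ↥F.CW) → (u : G) * f = f * u := by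
    have : Nontrivial ↥(U : Subgroup ↥F.CW) :=
      ⟨⟨⟨f', hfU⟩, 1, fun e => F.hf1 (congrArg (fun v : ↥(U : Subgroup ↥F.CW) => ((v : ↥F.CW) : G)) e)⟩⟩
    have := U.isPGroup'.center_nontrivial
    obtain ⟨⟨w, hw⟩, hw1⟩ := exists_ne (1 : ↥(Subgroup.center ↥(U : Subgroup ↥F.CW)))
    have hcw : ∀ u : ↥(U : Subgroup ↥F.CW), ((u : ↥F.CW) : G) * ((w : ↥F.CW) : G)
        = ((w : ↥F.CW) : G) * ((u : ↥F.CW) : G) := fun u =>
      congrArg (fun v : ↥(U : Subgroup ↥F.CW) => ((v : ↥F.CW) : G)) (Subgroup.mem_center_iff.1 hw u)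
    have hwf := hmem w w.2 (hcw ⟨f', hfU⟩).symm
    have hw' : ((w : ↥F.CW) : G) ≠ 1 := fun e => hw1 (Subtype.ext (Subtype.ext (Subtype.ext e)))
    have heq : Subgroup.zpowers ((w : ↥F.CW) : G) = Subgroup.zpowers f := by
      refine Subgroup.eq_of_le_of_card_ge (Subgroup.zpowers_le.2 hwf) ?_
      rw [F.card_zpowers_f]
      have hd := Subgroup.card_dvd_of_le (Subgroup.zpowers_le.2 hwf)
      rw [F.card_zpowers_f] at hd
      rcases (Nat.dvd_prime (by norm_num)).1 hd with h | h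
      · rw [Nat.card_zpowers, orderOf_eq_one_iff] at h
        exact absurd h hw'
      · omega
    intro u hu
    obtain ⟨j, hj⟩ := Subgroup.mem_zpowers_iff.1 (heq.symm ▸ Subgroup.mem_zpowers f :
      f ∈ Subgroup.zpowers ((w : ↥F.CW) : G))
    have e := (Commute.zpow_right (show Commute (u : G) ((w : ↥F.CW) : G) from hcw ⟨u, hu⟩) j).eq
    rwa [hj] at e
  have hxc : (⟨x, hx⟩ : ↥F.CW) ^ 5 = 1 := Subtype.ext (by simpa using hx5)
  obtain ⟨V, hV⟩ := (show IsPGroup 5 ↥(Subgroup.zpowers (⟨x, hx⟩ : ↥F.CW)) from fun u => by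
    obtain ⟨u, hu⟩ := u
    obtain ⟨j, rfl⟩ := Subgroup.mem_zpowers_iff.1 hu
    refine ⟨1, Subtype.ext ?_⟩
    rw [pow_one, Subgroup.coe_pow, Subgroup.coe_one, ← zpow_natCast, ← zpow_mul, mul_comm, zpow_mul,
      zpow_natCast, hxc, one_zpow]).exists_le_sylow
  obtain ⟨h, hh⟩ := MulAction.exists_smul_eq ↥F.CW V U
  refine ⟨h, h.2, ?_⟩
  have hm : h * ⟨x, hx⟩ * h⁻¹ ∈ (U : Subgroup ↥F.CW) := by
    rw [← hh, Sylow.coe_subgroup_smul]
    exact ⟨⟨x, hx⟩, hV (Subgroup.mem_zpowers _), rfl⟩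
  exact hmem _ hm (hcentral _ hm)

/-- An element of `C(z, s)` inducing `f ↦ f²`. -/
theorem exists_doubler : ∃ d ∈ F.CW, d * f * d⁻¹ = f ^ 2 := by
  obtain ⟨q1, q2, q3, q4⟩ := d8_data
  obtain ⟨x, hx, ex⟩ := F.conf.exists_act_refl2 _ _ q1 q2
  obtain ⟨y, hy, ey⟩ := F.conf.exists_act_refl2 _ _ q3 q4
  have hxy : x * y * z = z * (x * y) := (Commute.mul_left hx hy :)
  have hd : ∀ v, F.P.D.act (x * y) v = d8 v := fun v => by
    rw [F.P.D.act_mul F.P.gz hx hy, show F.P.D.act x _ = _ from ex _, show F.P.D.act y v = _ from ey v]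
    rfl
  obtain ⟨d, hdz, hds, hde⟩ := F.P.exists_fix hxy (by rw [hd, d8_e₀])
  have hdW : d ∈ F.CW := F.mem_CW.2 ⟨hdz, hds⟩
  have : Fact (Nat.Prime 5) := ⟨by norm_num⟩
  let R : Subgroup G := Qf z ⊓ Subgroup.centralizer {s}
  have hR : ¬ 5 ∣ Nat.card R := by
    intro h
    have hd' := h.trans (Subgroup.card_dvd_of_le (inf_le_left : R ≤ Qf z))
    rw [F.P.D.card] at hd'
    norm_num at hd'
  have hf2 : f ^ 2 ∈ F.CW := pow_mem F.f_mem 2
  have hin : f ^ 2 * d * f⁻¹ * d⁻¹ ∈ R := by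
    have hm : f ^ 2 * d * f⁻¹ * d⁻¹ ∈ F.CW :=
      mul_mem (mul_mem (mul_mem hf2 hdW) (inv_mem F.f_mem)) (inv_mem hdW)
    refine Subgroup.mem_inf.2 ⟨F.P.D.act_eq_id _ (F.mem_CW.1 hm).1 fun v => ?_,
      Subgroup.mem_centralizer_singleton_iff.2 (F.mem_CW.1 hm).2⟩
    have h1 : ∀ {a : G}, a ∈ F.CW → a * z = z * a := fun ha => (F.mem_CW.1 ha).1
    rw [F.P.D.act_mul F.P.gz (h1 (mul_mem (mul_mem hf2 hdW) (inv_mem F.f_mem))) (h1 (inv_mem hdW)),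
      F.P.D.act_mul F.P.gz (h1 (mul_mem hf2 hdW)) (h1 (inv_mem F.f_mem)),
      F.P.D.act_mul F.P.gz (h1 hf2) (h1 hdW), pow_two, F.P.D.act_mul F.P.gz F.hfz F.hfz, F.hact,
      F.hact, hde, hd, ← d8_f8, ← F.hact, ← F.P.D.act_mul F.P.gz F.hfz (h1 (inv_mem F.f_mem)),
      mul_inv_cancel, F.P.D.act_one F.P.gz, ← hd, ← hde,
      ← F.P.D.act_mul F.P.gz hdz (h1 (inv_mem hdW)), mul_inv_cancel, F.P.D.act_one F.P.gz]
  obtain ⟨r, hr, e⟩ := exists_coset_fixed (p := 5) (n := 1) R (f ^ 2) f d (fun r hr => by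
      obtain ⟨hr1, hr2⟩ := Subgroup.mem_inf.1 hr
      exact Subgroup.mem_inf.2 ⟨F.P.gz.norm _ (F.mem_CW.1 hf2).1 r hr1, mul_mem (mul_mem
        (Subgroup.mem_centralizer_singleton_iff.2 (F.mem_CW.1 hf2).2) hr2)
        (inv_mem (Subgroup.mem_centralizer_singleton_iff.2 (F.mem_CW.1 hf2).2))⟩)
    hin (by rw [pow_one, ← pow_mul, show 2 * 5 = 5 * 2 from rfl, pow_mul, F.hf5, one_pow])
    (by rw [pow_one]; exact F.hf5) hR
  obtain ⟨hr1, hr2⟩ := Subgroup.mem_inf.1 hr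
  refine ⟨r * d, mul_mem (F.mem_CW.2 ⟨F.P.gz.le_cent r hr1,
    Subgroup.mem_centralizer_singleton_iff.1 hr2⟩) hdW, ?_⟩
  rw [← e, mul_inv_cancel_right]

/-- An element of `C(f)` exchanging `z` and `s`. -/
theorem exists_swap : ∃ g : G, g * f = f * g ∧ g * z * g⁻¹ = s ∧ g * s * g⁻¹ = z := by
  obtain ⟨g, hg⟩ := isConj_iff.1 (CoType29.isConj_centre F.H F.P)
  have hsQ : z ∈ Qf s := F.P.z_mem
  have hx : g⁻¹ * z * g ∈ Qf z := (F.H.mem_conj_iff g z).1 (hg.symm ▸ hsQ)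
  have hxx : g⁻¹ * z * g * (g⁻¹ * z * g) = 1 := by
    rw [show g⁻¹ * z * g * (g⁻¹ * z * g) = g⁻¹ * (z * z) * g by group, F.P.zz]; group
  obtain ⟨a, ha, has⟩ := F.P.exists_conj_to hx hxx (fun e => F.P.gz.x_ne (by
      calc z = g * (g⁻¹ * z * g) * g⁻¹ := by group
        _ = 1 := by rw [e]; group)) (fun e => F.P.z_ne_s (by
      calc z = g * (g⁻¹ * z * g) * g⁻¹ := by group
        _ = g * z * g⁻¹ := by rw [e]
        _ = s := hg))
  set g₂ := g * a⁻¹ with hg₂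
  have h2z : g₂ * z * g₂⁻¹ = s := by
    rw [hg₂, show g * a⁻¹ * z * (g * a⁻¹)⁻¹ = g * (a⁻¹ * z * a) * g⁻¹ by group,
      show a⁻¹ * z * a = z by rw [mul_assoc, ← ha, inv_mul_cancel_left]]
    exact hg
  have h2s : g₂ * s * g₂⁻¹ = z := by
    rw [hg₂, ← has]; group
  set f' := g₂ * f * g₂⁻¹ with hf'
  have hf'W : f' ∈ F.CW := by
    have key : ∀ y, f * y = y * f → f' * (g₂ * y * g₂⁻¹) = (g₂ * y * g₂⁻¹) * f' := fun y hy => by
      calc f' * (g₂ * y * g₂⁻¹) = g₂ * (f * y) * g₂⁻¹ := by rw [hf']; group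
        _ = _ := by rw [hy, hf']; group
    exact F.mem_CW.2 ⟨h2s ▸ key s F.hfs, h2z ▸ key z F.hfz⟩
  obtain ⟨h, hh, hhf⟩ := F.exists_conj_mem hf'W (by
    rw [hf', conj_pow, F.hf5]; group)
  obtain ⟨j, hj⟩ := (mem_powers_iff_mem_zpowers.2 hhf : _ ∈ Submonoid.powers f)
  have hj : f ^ j = h * f' * h⁻¹ := hj
  have hj5 : f ^ (j % 5) = h * f' * h⁻¹ := by
    rw [← hj]; exact (pow_eq_pow_mod j F.hf5).symm
  have hj0 : (⟨j % 5, Nat.mod_lt _ (by norm_num)⟩ : Fin 5) ≠ 0 := fun e => F.hf1 (by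
    have e' : j % 5 = 0 := congrArg Fin.val e
    rw [e', pow_zero] at hj5
    calc f = g₂⁻¹ * (h⁻¹ * (h * f' * h⁻¹) * h) * g₂ := by rw [hf']; group
      _ = 1 := by rw [← hj5]; group)
  obtain ⟨i, hi⟩ := two_pow_inverse _ hj0
  obtain ⟨d, hd, hdf⟩ := F.exists_doubler
  have hdi : ∀ i : ℕ, d ^ i * f * (d ^ i)⁻¹ = f ^ (2 ^ i) := by
    intro i
    induction i with
    | zero => simp
    | succ i ih =>
      calc d ^ (i + 1) * f * (d ^ (i + 1))⁻¹ = d * (d ^ i * f * (d ^ i)⁻¹) * d⁻¹ := by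
            rw [pow_succ']; group
        _ = (d * f * d⁻¹) ^ (2 ^ i) := by rw [ih, conj_pow]
        _ = _ := by rw [hdf, ← pow_mul, pow_succ']
  have hdW : d ^ i.val * h ∈ F.CW := mul_mem (pow_mem hd _) hh
  obtain ⟨k1, k2⟩ := F.mem_CW.1 hdW
  refine ⟨d ^ i.val * h * g₂, ?_, ?_, ?_⟩
  · rw [← mul_inv_eq_iff_eq_mul]
    calc d ^ i.val * h * g₂ * f * (d ^ i.val * h * g₂)⁻¹
        = d ^ i.val * (h * f' * h⁻¹) * (d ^ i.val)⁻¹ := by rw [hf']; group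
      _ = (d ^ i.val * f * (d ^ i.val)⁻¹) ^ (j % 5) := by rw [← hj5, conj_pow]
      _ = f := by
        rw [hdi, ← pow_mul, mul_comm, pow_eq_pow_mod _ F.hf5]
        exact (congrArg (f ^ ·) hi).trans (pow_one f)
  · rw [show d ^ i.val * h * g₂ * z * (d ^ i.val * h * g₂)⁻¹
      = d ^ i.val * h * (g₂ * z * g₂⁻¹) * (d ^ i.val * h)⁻¹ by group, h2z, k2]
    group
  · rw [show d ^ i.val * h * g₂ * s * (d ^ i.val * h * g₂)⁻¹
      = d ^ i.val * h * (g₂ * s * g₂⁻¹) * (d ^ i.val * h)⁻¹ by group, h2s, k1]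
    group

/-- An element of `C(f)` of 3-power order with `z ↦ s ↦ sz ↦ z`. -/
theorem exists_cycle : ∃ (t : G) (a : ℕ), t * f = f * t ∧ t ^ 3 ^ a = 1 ∧ t * z * t⁻¹ = s ∧
    t * s * t⁻¹ = s * z ∧ t * (s * z) * t⁻¹ = z := by
  obtain ⟨g, hgf, hgz, hgs⟩ := F.exists_swap
  obtain ⟨m, hm, hmf⟩ := F.P.D.phi_surj f₀
  have hmf' : m * f = f * m := (F.conf.comm_iff hm).2 (by rw [show F.conf.D.phi m = f₀ from hmf]; decide)
  have hmz : m * z = z * m := F.P.gz.le_cent m hm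
  have hms : m * s * m⁻¹ = s * z := by
    rw [F.P.D.conj_eq F.P.gz F.P.s_mem hm, hmf, F.P.phi_s]; rfl
  set t₀ := g * m with ht₀
  have h1 : t₀ * z * t₀⁻¹ = s := by
    rw [ht₀, show g * m * z * (g * m)⁻¹ = g * (m * z * m⁻¹) * g⁻¹ by group, hmz,
      mul_inv_cancel_right, hgz]
  have h2 : t₀ * s * t₀⁻¹ = s * z := by
    rw [ht₀, show g * m * s * (g * m)⁻¹ = g * (m * s * m⁻¹) * g⁻¹ by group, hms,
      show g * (s * z) * g⁻¹ = (g * s * g⁻¹) * (g * z * g⁻¹) by group, hgs, hgz, F.P.comm]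
  have h3 : t₀ * (s * z) * t₀⁻¹ = z := by
    rw [show t₀ * (s * z) * t₀⁻¹ = (t₀ * s * t₀⁻¹) * (t₀ * z * t₀⁻¹) by group, h1, h2,
      mul_assoc, ← F.P.comm, ← mul_assoc, F.P.ss, one_mul]
  have ht₀f : t₀ * f = f * t₀ := (Commute.mul_left hgf hmf' :)
  obtain ⟨a, n, hn3, hn⟩ := Nat.exists_eq_pow_mul_and_not_dvd (n := orderOf t₀)
    (orderOf_pos t₀).ne' 3 (by norm_num)
  set u := t₀ ^ 3 with hu
  have hfix : ∀ y, (y = z ∨ y = s ∨ y = s * z) → ∀ q : ℕ, u ^ q * y * (u ^ q)⁻¹ = y := by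
    intro y hy q
    have hu1 : u * y * u⁻¹ = y := by
      rw [hu, show t₀ ^ 3 * y * (t₀ ^ 3)⁻¹ = t₀ * (t₀ * (t₀ * y * t₀⁻¹) * t₀⁻¹) * t₀⁻¹ by
        simp only [pow_succ, pow_zero, one_mul, mul_inv_rev, mul_assoc]]
      rcases hy with rfl | rfl | rfl
      · rw [h1, h2, h3]
      · rw [h2, h3, h1]
      · rw [h3, h1, h2]
    have hc : u * y = y * u := mul_inv_eq_iff_eq_mul.1 hu1
    rw [(Commute.pow_left hc q).eq, mul_inv_cancel_right]
  obtain ⟨q, hq⟩ : ∃ q, n * n = 3 * q + 1 := by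
    refine ⟨n * n / 3, ?_⟩
    have : n * n % 3 = 1 := by
      rw [Nat.mul_mod]
      rcases (show n % 3 = 1 ∨ n % 3 = 2 by omega) with h | h <;> rw [h]
    omega
  have he : t₀ ^ (n * n) = u ^ q * t₀ := by rw [hu, ← pow_mul, ← pow_succ, hq]
  have key : ∀ y y', (y' = z ∨ y' = s ∨ y' = s * z) → t₀ * y * t₀⁻¹ = y' →
      t₀ ^ (n * n) * y * (t₀ ^ (n * n))⁻¹ = y' := fun y y' hy' e => by
    rw [he, show u ^ q * t₀ * y * (u ^ q * t₀)⁻¹ = u ^ q * (t₀ * y * t₀⁻¹) * (u ^ q)⁻¹ by group, e]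
    exact hfix y' hy' q
  refine ⟨t₀ ^ (n * n), a, (Commute.pow_left ht₀f _ :), ?_, key _ _ (Or.inr (Or.inl rfl)) h1,
    key _ _ (Or.inr (Or.inr rfl)) h2, key _ _ (Or.inl rfl) h3⟩
  rw [← pow_mul, show n * n * 3 ^ a = n * orderOf t₀ by rw [hn]; ring, mul_comm, pow_mul,
    pow_orderOf_eq_one, one_pow]

end Frame

end Cfsg.Agent.Lib.CoTypeB85
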