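import Cfsg.Agent.Lib.CoTypeB85.Tools
import Cfsg.Agent.Lib.Co1Type47.Centres

/-!
The centraliser of the element of order 5 inside `C(z)` (written by helper85).
-/

set_option autoImplicit false
set_option linter.unusedSectionVars false
set_option synthInstance.maxSize 1000
set_option synthInstance.maxHeartbeats 200000

namespace Cfsg.Agent.Lib.CoTypeB85

open Co1Type47

/-- The configuration: `f ∈ C(z)` acts as the standard element. -/
structure Conf {G : Type*} [Group G] (z f : G) (Qf : G → Subgroup G) where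
  H : Hyp z Qf
  D : Data z (Qf z)
  hf5 : f ^ 5 = 1
  hf1 : f ≠ 1
  hfz : f * z = z * f
  hact : ∀ v, D.act f v = f8 v

namespace Conf

variable {G : Type*} [Group G] [Finite G] {z f : G} {Qf : G → Subgroup G} (c : Conf z f Qf)
include c

theorem good : LargeExtra.Good (Qf z) z := c.H.good

theorem orderOf_f : orderOf f = 5 :=
  haveI : Fact (Nat.Prime 5) := ⟨by norm_num⟩
  orderOf_eq_prime c.hf5 c.hf1

theorem act_add {x : G} (hx : x * z = z * x) (u v : V8) :
    c.D.act x (u + v) = c.D.act x u + c.D.act x v :=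
  c.D.act_add hx (fun a ha => c.good.norm x hx a ha) u v

theorem act_zero {x : G} (hx : x * z = z * x) : c.D.act x 0 = 0 := c.D.act_zero c.good hx

theorem act_mul {x y : G} (hx : x * z = z * x) (hy : y * z = z * y) (v : V8) :
    c.D.act (x * y) v = c.D.act x (c.D.act y v) := c.D.act_mul c.good hx hy v

theorem act_inj {x : G} (hx : x * z = z * x) {u v : V8} (h : c.D.act x u = c.D.act x v) :
    u = v := by
  rw [← c.D.act_inv_act c.good hx u, h, c.D.act_inv_act c.good hx]

/-- Elements of `O₂(C(z))` with fixed coordinates commute with `f`. -/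
theorem comm_iff {q : G} (hq : q ∈ Qf z) : q * f = f * q ↔ InF (c.D.phi q) := by
  constructor
  · intro h
    show f8 (c.D.phi q) = c.D.phi q
    rw [← c.hact, ← c.D.act_phi f c.hfz q hq, ← h, mul_inv_cancel_right]
  · intro h
    have h1 : c.D.phi (f * q * f⁻¹) = c.D.phi q := by rw [c.D.act_phi f c.hfz q hq, c.hact]; exact h
    rcases c.D.eq_or_of_phi_eq c.good (c.good.norm f c.hfz q hq) hq h1 with e | e
    · exact (mul_inv_eq_iff_eq_mul.1 e).symm
    · exfalso
      have hz : z * f = f * z := c.hfz.symm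
      have hstep : ∀ (r : G), r * z = z * r → f * r * f⁻¹ = r * z → f * (r * z) * f⁻¹ = r := by
        intro r hr hh
        calc f * (r * z) * f⁻¹ = (f * r * f⁻¹) * (f * z * f⁻¹) := by group
          _ = r * z * z := by rw [hh, c.hfz, mul_inv_cancel_right]
          _ = r := by rw [mul_assoc, c.good.x_sq, mul_one]
      have hqz : q * z = z * q := c.good.le_cent q hq
      have h2 := hstep q hqz e
      have h5 : f ^ 5 * q * (f ^ 5)⁻¹ = q * z := by
        calc f ^ 5 * q * (f ^ 5)⁻¹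
            = f * (f * (f * (f * (f * q * f⁻¹) * f⁻¹) * f⁻¹) * f⁻¹) * f⁻¹ := by
              simp only [pow_succ, pow_zero, one_mul, mul_inv_rev, mul_assoc]
          _ = q * z := by rw [e, h2, e, h2, e]
      rw [c.hf5, one_mul, inv_one, mul_one] at h5
      exact c.good.x_ne (by simpa using h5.symm)

/-- An element of `C(z)` commuting with the action of `f` is corrected to centralise `f`. -/
theorem exists_lift (R : Subgroup G) (hR : R ≤ Qf z) (hnorm : ∀ r ∈ R, f * r * f⁻¹ ∈ R) {x : G}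
    (hx : x * z = z * x) (hcomm : f * x * f⁻¹ * x⁻¹ ∈ R) :
    ∃ r ∈ R, (r * x) * f = f * (r * x) ∧ (r * x) * z = z * (r * x) ∧
      ∀ v, c.D.act (r * x) v = c.D.act x v := by
  have : Fact (Nat.Prime 5) := ⟨by norm_num⟩
  have h5 : ¬ 5 ∣ Nat.card R := by
    intro h
    have hd := h.trans (Subgroup.card_dvd_of_le hR)
    rw [c.D.card] at hd
    norm_num at hd
  obtain ⟨r, hr, e⟩ := exists_coset_fixed (p := 5) (n := 1) R f f x hnorm hcomm
    (by simpa using c.hf5) (by simpa using c.hf5) h5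
  have hrz := c.good.le_cent r (hR hr)
  exact ⟨r, hr, e.symm, (Commute.mul_left hrz hx :), fun v => by
    rw [c.act_mul hrz hx, c.D.act_of_mem c.good (hR hr)]⟩

theorem comm_mem {x : G} (hx : x * z = z * x) (h : ∀ v, c.D.act x (f8 v) = f8 (c.D.act x v)) :
    f * x * f⁻¹ * x⁻¹ ∈ Qf z := by
  have hi : f⁻¹ * z = z * f⁻¹ := (Commute.inv_left c.hfz :)
  have hxi : x⁻¹ * z = z * x⁻¹ := (Commute.inv_left hx :)
  have h1 : f * x * z = z * (f * x) := (Commute.mul_left c.hfz hx :)
  have h2 : f * x * f⁻¹ * z = z * (f * x * f⁻¹) := (Commute.mul_left h1 hi :)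
  refine c.D.act_eq_id _ (Commute.mul_left h2 hxi :) fun v => ?_
  rw [c.act_mul h2 hxi, c.act_mul h1 hi, c.act_mul c.hfz hx, c.hact, ← h, ← c.hact,
    ← c.act_mul c.hfz hi, mul_inv_cancel, c.D.act_one c.good, ← c.act_mul hx hxi, mul_inv_cancel,
    c.D.act_one c.good]

/-- Elements commuting with `f` commute with its action. -/
theorem act_comm {x : G} (hx : x * z = z * x) (hxf : x * f = f * x) (v : V8) :
    c.D.act x (f8 v) = f8 (c.D.act x v) := by
  rw [← c.hact, ← c.act_mul hx c.hfz, hxf, c.act_mul c.hfz hx, c.hact]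

theorem act_inF {x : G} (hx : x * z = z * x) (hxf : x * f = f * x) {v : V8} (hv : InF v) :
    InF (c.D.act x v) := by
  show f8 _ = _
  rw [← c.act_comm hx hxf, (show f8 v = v from hv)]

theorem act_inM {x : G} (hx : x * z = z * x) (hxf : x * f = f * x) {w : W6} (hw : InM w) :
    (c.D.act x (emb w)).1 = 0 ∧ (c.D.act x (emb w)).2.1 = 0 ∧ InM (c.D.act x (emb w)).2.2 := by
  obtain ⟨u, rfl⟩ := moved_surj w hw
  rw [emb_add, emb_f6, c.act_add hx, c.act_comm hx hxf]
  exact moved_mem _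

/-- The subgroup acting trivially on the moved space. -/
def K : Subgroup G where
  carrier := {x | x * z = z * x ∧ x * f = f * x ∧ ∀ w, InM w → c.D.act x (emb w) = emb w}
  one_mem' := ⟨by simp, by simp, fun w _ => c.D.act_one c.good _⟩
  mul_mem' := fun {x y} hx hy => ⟨(Commute.mul_left hx.1 hy.1 :), (Commute.mul_left hx.2.1 hy.2.1 :),
    fun w hw => by rw [c.act_mul hx.1 hy.1, hy.2.2 w hw, hx.2.2 w hw]⟩
  inv_mem' := fun {x} hx => ⟨(Commute.inv_left hx.1 :), (Commute.inv_left hx.2.1 :), fun w hw => by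
    conv_lhs => rw [← hx.2.2 w hw]
    rw [c.D.act_inv_act c.good hx.1]⟩

theorem mem_K {x : G} :
    x ∈ c.K ↔ x * z = z * x ∧ x * f = f * x ∧ ∀ w, InM w → c.D.act x (emb w) = emb w := Iff.rfl

theorem exists_perm (k : ↥c.K) (i : Fin 5) : ∃ j, sF j = c.D.act k (sF i) := by
  obtain ⟨hz, hf, -⟩ := c.mem_K.1 k.2
  obtain ⟨h1, h2, h3⟩ := sF_facts i
  exact sF_surj _ (c.act_inF hz hf h1) (by rw [c.D.act_iso k hz, h2])
    fun e => h3 (c.act_inj hz (by rw [e, c.act_zero hz]))

/-- The action on the fixed singular vectors. -/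
noncomputable def pi : ↥c.K →* Equiv.Perm (Fin 5) :=
  letI toFun : ↥c.K → Fin 5 → Fin 5 := fun k i => (c.exists_perm k i).choose
  have hspec : ∀ k i, sF (toFun k i) = c.D.act k (sF i) := fun k i => (c.exists_perm k i).choose_spec
  { toFun := fun k => Equiv.ofBijective (toFun k) (Finite.injective_iff_bijective.1 fun i j e =>
      sF_inj i j (c.act_inj (c.mem_K.1 k.2).1 (by rw [← hspec, ← hspec, e])))
    map_one' := Equiv.ext fun i => sF_inj _ _ (by
      show sF (toFun 1 i) = sF i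
      rw [hspec]; exact c.D.act_one c.good _)
    map_mul' := fun k l => Equiv.ext fun i => sF_inj _ _ (by
      show sF (toFun (k * l) i) = sF (toFun k (toFun l i))
      rw [hspec, hspec, hspec]
      exact c.act_mul (c.mem_K.1 k.2).1 (c.mem_K.1 l.2).1 _) }

theorem pi_spec (k : ↥c.K) (i : Fin 5) : sF (c.pi k i) = c.D.act k (sF i) :=
  (c.exists_perm k i).choose_spec

/-- `O₂(C(z)) ∩ C(f)`. -/
def Qfix (_c : Conf z f Qf) : Subgroup G := Qf z ⊓ Subgroup.centralizer {f}

theorem mem_Qfix {q : G} : q ∈ c.Qfix ↔ q ∈ Qf z ∧ q * f = f * q :=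
  Subgroup.mem_inf.trans (and_congr_right fun _ => Subgroup.mem_centralizer_singleton_iff)

theorem Qfix_le : c.Qfix ≤ c.K := fun q hq => by
  obtain ⟨h1, h2⟩ := c.mem_Qfix.1 hq
  exact c.mem_K.2 ⟨c.good.le_cent q h1, h2, fun w _ => c.D.act_of_mem c.good h1 _⟩

theorem ker_pi : c.pi.ker = c.Qfix.subgroupOf c.K := by
  ext k
  obtain ⟨hz, hf, hM⟩ := c.mem_K.1 k.2
  rw [MonoidHom.mem_ker, Subgroup.mem_subgroupOf, c.mem_Qfix]
  constructor
  · intro h
    refine ⟨c.D.act_eq_id k hz (eq_of_split (c.act_add hz) (g' := id) (fun _ _ => rfl)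
      (fun x hx => eq_on_inF (c.act_add hz) (g' := id) (fun _ _ => rfl) (fun i => ?_) hx) hM), hf⟩
    rw [← c.pi_spec, h]; rfl
  · rintro ⟨h, -⟩
    exact Equiv.ext fun i => sF_inj _ _ (by rw [c.pi_spec, c.D.act_of_mem c.good h]; rfl)

/-- Products of two reflections are induced. -/
theorem exists_act_refl2 (v₁ v₂ : V8) (h1 : qV v₁ = 1) (h2 : qV v₂ = 1) :
    ∃ x, x * z = z * x ∧ ∀ v, c.D.act x v = Co1Type47.refl v₁ (Co1Type47.refl v₂ v) := by
  have key : ∀ (g g' : Iso) (v : V8), (g.comp g').map v = g.map (g'.map v) := fun _ _ _ => rfl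
  rcases c.D.exists_act ((reflIso v₁ h1).comp (reflIso v₂ h2)) v₂ h2 with ⟨x, hx, e⟩ | ⟨x, hx, e⟩
  · refine ⟨x, hx, fun v => ?_⟩
    rw [e, key, reflIso_apply, reflIso_apply]
  · refine absurd (fun v => ?_) (c.D.act_ne_refl x hx v₁ h1)
    rw [e, key, reflIso_apply, reflIso_apply, Co1Type47.refl_refl]

theorem refl_comm_f8 {v : V8} (hv : InF v) (x : V8) : Co1Type47.refl v (f8 x) = f8 (Co1Type47.refl v x) := by
  have hb : bV v (f8 x) = bV v x := by
    have h := f8_iso (v + x)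
    rw [f8_add, qV_add, qV_add, f8_iso, f8_iso, (show f8 v = v from hv)] at h
    exact add_left_cancel h
  unfold Co1Type47.refl
  rw [hb]
  split_ifs with h
  · simp only [add_zero]
  · rw [f8_add, (show f8 v = v from hv)]

theorem swap_mul_mem {i j k l : Fin 5} (hij : i ≠ j) (hkl : k ≠ l) :
    Equiv.swap i j * Equiv.swap k l ∈ c.pi.range := by
  obtain ⟨q1, a1, b1⟩ := sF_refl i j hij
  obtain ⟨q2, a2, b2⟩ := sF_refl k l hkl
  have hin : ∀ {i j : Fin 5}, InF (sF i + sF j) := fun {i j} => by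
    show f8 _ = _
    rw [f8_add, (show f8 _ = _ from (sF_facts i).1), (show f8 _ = _ from (sF_facts j).1)]
  obtain ⟨x, hx, e⟩ := c.exists_act_refl2 _ _ q1 q2
  obtain ⟨r, hr, hrf, hrz, hre⟩ := c.exists_lift (Qf z) le_rfl (c.good.norm f c.hfz) hx
    (c.comm_mem hx fun v => by
      rw [e, e, c.refl_comm_f8 hin, c.refl_comm_f8 hin])
  have hmem : r * x ∈ c.K := c.mem_K.2 ⟨hrz, hrf, fun w hw => by
    rw [hre]
    refine eq_on_inM (c.act_add hx) (g' := id) (fun _ _ => rfl) (fun m => ?_) hw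
    rw [e, b2, b1]; rfl⟩
  exact ⟨⟨_, hmem⟩, Equiv.ext fun m => sF_inj _ _ (by rw [c.pi_spec, hre, e, a2, a1]; rfl)⟩

theorem sign_pi (k : ↥c.K) : Equiv.Perm.sign (c.pi k) = 1 := by
  rcases Int.units_eq_one_or (Equiv.Perm.sign (c.pi k)) with h | h
  · exact h
  exfalso
  have halt : alternatingGroup (Fin 5) ≤ c.pi.range := by
    rw [← Equiv.Perm.closure_three_cycles_eq_alternating, Subgroup.closure_le]
    intro σ hσ
    obtain ⟨i, j, l, hij, hjl, rfl⟩ := three_cycle_swaps σ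
      (by rw [← hσ.orderOf, pow_orderOf_eq_one]) (fun e => by
        have := hσ.orderOf; rw [e, orderOf_one] at this; omega)
    exact c.swap_mul_mem hij hjl
  have hsw : Equiv.swap (0 : Fin 5) 1 ∈ c.pi.range := by
    have hm : (c.pi k)⁻¹ * Equiv.swap (0 : Fin 5) 1 ∈ alternatingGroup (Fin 5) := by
      rw [Equiv.Perm.mem_alternatingGroup, map_mul, map_inv, h, Equiv.Perm.sign_swap (by decide)]
      decide
    have := mul_mem (⟨k, rfl⟩ : c.pi k ∈ c.pi.range) (halt hm)
    rwa [mul_inv_cancel_left] at this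
  obtain ⟨t, ht⟩ := hsw
  obtain ⟨q1, a1, b1⟩ := sF_refl 0 1 (by decide)
  obtain ⟨hz, -, hM⟩ := c.mem_K.1 t.2
  refine c.D.act_ne_refl t hz _ q1 (eq_of_split (c.act_add hz) (Co1Type47.refl_add _)
    (fun x hx => eq_on_inF (c.act_add hz) (Co1Type47.refl_add _) (fun i => ?_) hx)
    fun w hw => ?_)
  · rw [a1, ← c.pi_spec, ht]
  · rw [hM w hw]
    exact (eq_on_inM (Co1Type47.refl_add _) (g' := id) (fun _ _ => rfl) b1 hw).symm

theorem range_pi : c.pi.range = alternatingGroup (Fin 5) := by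
  refine le_antisymm (by rintro _ ⟨k, rfl⟩; exact Equiv.Perm.mem_alternatingGroup.2 (c.sign_pi k)) ?_
  rw [← Equiv.Perm.closure_three_cycles_eq_alternating, Subgroup.closure_le]
  intro σ hσ
  obtain ⟨i, j, l, hij, hjl, rfl⟩ := three_cycle_swaps σ
    (by rw [← hσ.orderOf, pow_orderOf_eq_one]) (fun e => by
      have := hσ.orderOf; rw [e, orderOf_one] at this; omega)
  exact c.swap_mul_mem hij hjl

/-- The coordinate homomorphism on `O₂(C(z)) ∩ C(f)`. -/
def phiHom : ↥c.Qfix →* Multiplicative V8 where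
  toFun q := Multiplicative.ofAdd (c.D.phi q)
  map_one' := by simp [c.D.phi_one c.good]
  map_mul' p q := by
    rw [← ofAdd_add, ← c.D.phi_mul _ (c.mem_Qfix.1 p.2).1 _ (c.mem_Qfix.1 q.2).1]; rfl

theorem card_Qfix : Nat.card ↥c.Qfix = 32 := by
  rw [← c.phiHom.ker.card_mul_index, Subgroup.index_ker]
  have h1 : Nat.card ↥c.phiHom.range = 16 := by
    rw [← card_inF]
    refine Nat.card_congr (Equiv.subtypeEquiv Multiplicative.toAdd fun v => ?_)
    constructor
    · rintro ⟨q, rfl⟩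
      exact (c.comm_iff (c.mem_Qfix.1 q.2).1).1 (c.mem_Qfix.1 q.2).2
    · intro hv
      obtain ⟨q, hq, e⟩ := c.D.phi_surj (Multiplicative.toAdd v)
      exact ⟨⟨q, c.mem_Qfix.2 ⟨hq, (c.comm_iff hq).2 (by rw [e]; exact hv)⟩⟩,
        Multiplicative.toAdd.injective e⟩
  have h2 : Nat.card ↥c.phiHom.ker = 2 := by
    have hz : z ∈ c.Qfix := c.mem_Qfix.2 ⟨c.good.x_mem, c.hfz.symm⟩
    refine (Nat.card_eq_two_iff).2 ⟨1, ⟨⟨z, hz⟩, c.D.phi_z c.good⟩, fun e => c.good.x_ne
      (congrArg (fun q : ↥c.phiHom.ker => ((q : ↥c.Qfix) : G)) e).symm, Set.eq_univ_of_forall fun q => ?_⟩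
    rcases (c.D.phi_eq_zero _ (c.mem_Qfix.1 q.1.2).1).1 (show c.D.phi q.1 = 0 from q.2) with e | e
    · exact Or.inl (Subtype.ext (Subtype.ext e))
    · exact Or.inr (Subtype.ext (Subtype.ext e))
  rw [h1, h2]

theorem card_K : Nat.card ↥c.K = 1920 := by
  rw [← c.pi.ker.card_mul_index, Subgroup.index_ker, c.range_pi, c.ker_pi,
    Nat.card_congr (Subgroup.subgroupOfEquivOfLe c.Qfix_le).toEquiv, c.card_Qfix,
    nat_card_alternatingGroup, Nat.card_fin]
  norm_num [Nat.factorial]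

open Fin.NatCast in
/-- An element of `C(z) ∩ C(f)` is a power of `f` times an element of `K`. -/
theorem exists_pow_mul {x : G} (hx : x * z = z * x) (hxf : x * f = f * x) :
    ∃ n : ℕ, f ^ n * x ∈ c.K := by
  have h := c.act_inM hx hxf (sM_facts 0).1
  set m := (c.D.act x (emb (sM 0))).2.2 with hm
  have he : c.D.act x (emb (sM 0)) = emb m := Prod.ext h.1 (Prod.ext h.2.1 rfl)
  have hq : qW m = 0 := by
    have := c.D.act_iso x hx (emb (sM 0))
    rw [he] at this
    simpa [qV, emb, (sM_facts 0).2.1] using this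
  obtain ⟨i, hi⟩ := sM_surj m h.2.2 hq (fun e => (sM_facts 0).2.2 (by
    have h' : c.D.act x (emb (sM 0)) = c.D.act x 0 := by
      rw [he, e, c.act_zero hx]; rfl
    exact congrArg (fun v : V8 => v.2.2) (c.act_inj hx h')))
  have hpz : ∀ n : ℕ, f ^ n * z = z * f ^ n := fun n => (Commute.pow_left c.hfz n :)
  have hpow : ∀ (n : ℕ) (j : Fin 5), c.D.act (f ^ n) (emb (sM j)) = emb (sM (j + n)) := by
    intro n
    induction n with
    | zero => intro j; rw [pow_zero, c.D.act_one c.good]; simp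
    | succ n ih =>
      intro j
      rw [pow_succ', c.act_mul c.hfz (hpz n), ih, c.hact, ← emb_f6, f6_sM]
      push_cast
      rw [add_assoc]
  refine ⟨(5 - i.val) % 5, c.mem_K.2 ⟨(Commute.mul_left (hpz _) hx :),
    (Commute.mul_left (Commute.pow_left (Commute.refl f) _) hxf :), fun w hw => ?_⟩⟩
  set n := (5 - i.val) % 5
  have hz' : (f ^ n * x) * z = z * (f ^ n * x) := (Commute.mul_left (hpz _) hx :)
  have hf' : (f ^ n * x) * f = f * (f ^ n * x) :=
    (Commute.mul_left (Commute.pow_left (Commute.refl f) _) hxf :)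
  have h0 : c.D.act (f ^ n * x) (emb (sM 0)) = emb (sM 0) := by
    rw [c.act_mul (hpz _) hx, he, ← hi, hpow]
    congr 2
    exact (show ∀ i : Fin 5, i + ((((5 - i.val) % 5 : ℕ)) : Fin 5) = 0 by decide) i
  have hin := c.act_inM hz' hf' hw
  have hw' : c.D.act (f ^ n * x) (emb w) = emb (c.D.act (f ^ n * x) (emb w)).2.2 :=
    Prod.ext hin.1 (Prod.ext hin.2.1 rfl)
  rw [hw']
  congr 1
  refine eq_of_comm (L := fun u => (c.D.act (f ^ n * x) (emb u)).2.2) (L' := id)
    (fun u u' => by rw [emb_add, c.act_add hz']; rfl) (fun _ _ => rfl)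
    (fun u => by rw [emb_f6, c.act_comm hz' hf']; rfl) (fun _ => rfl)
    (by rw [h0]; rfl) hw

end Conf

end Cfsg.Agent.Lib.CoTypeB85
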