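import Cfsg.Agent.Lib.CoTypeB85.Std

/-!
An isometry of order 5 of `V8` with sixteen fixed vectors and no totally singular fixed plane is
conjugate to the standard one (written by helper85).
-/

set_option autoImplicit false
set_option synthInstance.maxSize 1000
set_option synthInstance.maxHeartbeats 200000

namespace Cfsg.Agent.Lib.CoTypeB85

open Co1Type47

/-- The standard frame. -/
def frame : Fin 8 → V8 :=
  ![e₀, f₀, emb (repA 1), emb (repV 1), emb (sM 0), emb (sM 1), emb (sM 2), emb (sM 3)]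

theorem frame_span : ∀ y : V8, ∃ a b c d a' b' c' d' : ZMod 2,
    y = a • frame 0 + b • frame 1 + c • frame 2 + d • frame 3
      + a' • frame 4 + b' • frame 5 + c' • frame 6 + d' • frame 7 := by decide +kernel

theorem frame_gram_inj : ∀ c : Fin 8 → ZMod 2,
    (∀ j, ∑ i, c i * bV (frame i) (frame j) = 0) → ∀ i, c i = 0 := by decide +kernel

theorem indep_of_gram (v : Fin 8 → V8) (h : ∀ i j, bV (v i) (v j) = bV (frame i) (frame j)) :
    LinearIndependent (ZMod 2) v := by
  rw [Fintype.linearIndependent_iff]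
  intro c hc
  refine frame_gram_inj c fun j => ?_
  let φ : V8 →+ ZMod 2 :=
    { toFun := fun x => bV x (v j)
      map_zero' := bV_zero_left _
      map_add' := fun x y => bV_add_left x y _ }
  have e := congrArg φ hc
  rw [map_sum, map_zero] at e
  rw [← e]
  refine Finset.sum_congr rfl fun i _ => ?_
  rcases zmod_cases (c i) with hi | hi <;> rw [hi]
  · rw [zero_smul, zero_mul, map_zero]
  · rw [one_smul, one_mul, ← h]; rfl

/-- The cyclic product of coefficient vectors. -/
def cyc (a c : Fin 5 → ZMod 2) : Fin 5 → ZMod 2 :=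
  a 0 • c + a 1 • (fun i => c (i - 1)) + a 2 • (fun i => c (i - 1 - 1))
    + a 3 • (fun i => c (i - 1 - 1 - 1)) + a 4 • (fun i => c (i - 1 - 1 - 1 - 1))

theorem cyc_inverse : ∀ c : Fin 5 → ZMod 2, c ≠ 0 → c 4 = 0 →
    ∃ a, cyc a c = Pi.single 0 1 ∨ cyc a c = Pi.single 0 1 + fun _ => 1 := by decide +kernel

/-- The hypotheses on the isometry. -/
structure Five (g : V8 → V8) : Prop where
  add : ∀ u v, g (u + v) = g u + g v
  iso : ∀ v, qV (g v) = qV v
  five : ∀ v, g (g (g (g (g v)))) = v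
  card : Nat.card {v : V8 // g v = v} = 16
  noTS : ∀ a b : V8, g a = a → g b = b → a ≠ 0 → b ≠ 0 → a ≠ b → qV a = 0 → qV b = 0 → bV a b ≠ 0

namespace Five

variable {g : V8 → V8} (hg : Five g)
include hg

theorem bil (u v : V8) : bV (g u) (g v) = bV u v := by
  have h := hg.iso (u + v)
  rw [hg.add, qV_add, qV_add, hg.iso, hg.iso] at h
  exact add_left_cancel h

/-- `g` as an additive map. -/
def hom : V8 →+ V8 where
  toFun := g
  map_zero' := by
    have := hg.add 0 0; rw [add_zero] at this; exact left_eq_add.1 this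
  map_add' := hg.add

theorem zero : g 0 = 0 := hg.hom.map_zero

/-- The sum over the orbit. -/
def orbSum : V8 →+ V8 where
  toFun v := v + g v + g (g v) + g (g (g v)) + g (g (g (g v)))
  map_zero' := by simp [hg.zero]
  map_add' u v := by simp only [hg.add]; abel

theorem orbSum_fix (v : V8) : g (hg.orbSum v) = hg.orbSum v := by
  show g (v + g v + g (g v) + g (g (g v)) + g (g (g (g v)))) = _
  simp only [hg.add, hg.five]
  show _ = v + g v + g (g v) + g (g (g v)) + g (g (g (g v)))
  abel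

theorem bV_fix {x : V8} (hx : g x = x) (v : V8) : bV x (g v) = bV x v := by
  conv_lhs => rw [← hx]
  exact hg.bil x v

theorem bV_orbSum {x : V8} (hx : g x = x) (v : V8) : bV x (hg.orbSum v) = bV x v := by
  show bV x (v + g v + g (g v) + g (g (g v)) + g (g (g (g v)))) = _
  simp only [bV_add_right, hg.bV_fix hx]
  generalize bV x v = t
  revert t
  decide

/-- The fixed space. -/
def fixed : AddSubgroup V8 where
  carrier := {v | g v = v}
  zero_mem' := hg.zero
  add_mem' := fun {a b} ha hb => by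
    show g (a + b) = a + b
    rw [hg.add, (show g a = a from ha), (show g b = b from hb)]
  neg_mem' := fun {a} ha => by
    show g (-a) = -a
    rw [neg_eq]; exact ha

/-- Two linear conditions leave at least four fixed vectors. -/
theorem four_le (u f : V8) :
    4 ≤ Nat.card {v : V8 // g v = v ∧ bV u v = 0 ∧ bV f v = 0} := by
  classical
  let φ : ↥hg.fixed →+ ZMod 2 × ZMod 2 :=
    { toFun := fun v => (bV u v, bV f v)
      map_zero' := by simp [bV_zero_right]
      map_add' := fun a b => by simp [bV_add_right] }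
  have h1 := φ.ker.card_mul_index
  rw [show Nat.card ↥hg.fixed = 16 from hg.card, AddSubgroup.index_ker] at h1
  have h2 : Nat.card φ.range ≤ 4 := by
    have := Nat.card_le_card_of_injective (fun x : φ.range => (x : ZMod 2 × ZMod 2))
      Subtype.val_injective
    simpa using this
  have h3 : 4 ≤ Nat.card φ.ker := by
    by_contra h
    have : Nat.card φ.ker * Nat.card φ.range ≤ 3 * 4 := Nat.mul_le_mul (by omega) h2
    omega
  refine h3.trans (Nat.card_le_card_of_injective
    (fun v => ⟨v.1.1, v.1.2, congrArg Prod.fst (AddMonoidHom.mem_ker.1 v.2),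
      congrArg Prod.snd (AddMonoidHom.mem_ker.1 v.2)⟩) fun a b e => ?_)
  exact Subtype.ext (Subtype.ext (congrArg (fun x : {v : V8 // g v = v ∧ bV u v = 0 ∧ bV f v = 0} => x.1) e))

theorem exists_third (u f : V8) (x : V8) :
    ∃ a, g a = a ∧ bV u a = 0 ∧ bV f a = 0 ∧ a ≠ 0 ∧ a ≠ x := by
  classical
  by_contra h
  have hsub : ∀ a : {v : V8 // g v = v ∧ bV u v = 0 ∧ bV f v = 0}, a.1 = 0 ∨ a.1 = x := fun a => by
    by_contra hn
    rw [not_or] at hn
    exact h ⟨a.1, a.2.1, a.2.2.1, a.2.2.2, hn.1, hn.2⟩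
  have := Nat.card_le_card_of_injective
    (fun a : {v : V8 // g v = v ∧ bV u v = 0 ∧ bV f v = 0} => decide (a.1 = 0)) (fun a b e => by
      have e' : (a.1 = 0) ↔ (b.1 = 0) := by simpa using e
      rcases hsub a with ha | ha <;> rcases hsub b with hb | hb <;> apply Subtype.ext
      · rw [ha, hb]
      · rw [ha, e'.1 ha]
      · rw [hb, e'.2 hb]
      · rw [ha, hb])
  have h4 := hg.four_le u f
  have h2 : Nat.card Bool = 2 := by simp
  omega

theorem fixed_frame : ∃ u f a b : V8, g u = u ∧ g f = f ∧ g a = a ∧ g b = b ∧ qV u = 0 ∧ qV f = 0 ∧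
    qV a = 1 ∧ qV b = 1 ∧ bV u f = 1 ∧ bV u a = 0 ∧ bV u b = 0 ∧ bV f a = 0 ∧ bV f b = 0 ∧
    bV a b = 1 := by
  obtain ⟨u, hu, hu0, hqu⟩ : ∃ u, g u = u ∧ u ≠ 0 ∧ qV u = 0 := by
    obtain ⟨a, ha, -, -, ha0, -⟩ := hg.exists_third 0 0 0
    rcases zmod_cases (qV a) with h | h
    · exact ⟨a, ha, ha0, h⟩
    obtain ⟨b, hb, hab, -, hb0, hba⟩ := hg.exists_third a 0 a
    rcases zmod_cases (qV b) with h' | h'
    · exact ⟨b, hb, hb0, h'⟩
    · refine ⟨a + b, by rw [hg.add, ha, hb], fun e => hba (Co1Type47.add_eq_zero.1 e).symm, ?_⟩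
      rw [qV_add, h, h', hab]; decide
  obtain ⟨f₁, hf₁⟩ : ∃ v, bV u v ≠ 0 := by
    by_contra h
    push Not at h
    exact hu0 (bV_nondeg u h)
  obtain ⟨f, hf, hqf, huf⟩ : ∃ f, g f = f ∧ qV f = 0 ∧ bV u f = 1 := by
    have h1 : bV u (hg.orbSum f₁) = 1 := by rw [hg.bV_orbSum hu]; exact ne_zero_iff.1 hf₁
    rcases zmod_cases (qV (hg.orbSum f₁)) with h | h
    · exact ⟨_, hg.orbSum_fix f₁, h, h1⟩
    · exact ⟨hg.orbSum f₁ + u, by rw [hg.add, hg.orbSum_fix, hu],
        by rw [qV_add, h, hqu, bV_comm, h1]; decide,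
        by rw [bV_add_right, h1, bV_self]; decide⟩
  have hq : ∀ a, g a = a → bV u a = 0 → bV f a = 0 → a ≠ 0 → qV a = 1 := fun a ha h1 h2 h0 => by
    refine (zmod_cases _).resolve_left fun e => hg.noTS u a hu ha hu0 h0 ?_ hqu e h1
    rintro rfl
    rw [bV_comm, huf] at h2
    exact one_ne_zero h2
  obtain ⟨a, ha, h1, h2, ha0, -⟩ := hg.exists_third u f 0
  obtain ⟨b, hb, h3, h4, hb0, hba⟩ := hg.exists_third u f a
  refine ⟨u, f, a, b, hu, hf, ha, hb, hqu, hqf, hq a ha h1 h2 ha0, hq b hb h3 h4 hb0, huf, h1, h3,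
    h2, h4, ?_⟩
  have h := hq (a + b) (by rw [hg.add, ha, hb]) (by rw [bV_add_right, h1, h3]; decide)
    (by rw [bV_add_right, h2, h4]; decide) (fun e => hba (Co1Type47.add_eq_zero.1 e).symm)
  rw [qV_add, hq a ha h1 h2 ha0, hq b hb h3 h4 hb0] at h
  revert h
  generalize bV a b = t
  revert t
  decide

/-- An orbit of singular vectors with all polar values one. -/
theorem rev (v : V8) :
    bV v (g (g (g v))) = bV v (g (g v)) ∧ bV v (g (g (g (g v)))) = bV v (g v) := by
  constructor
  · rw [← hg.bil, ← hg.bil (g v), hg.five, bV_comm]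
  · rw [← hg.bil, hg.five, bV_comm]

theorem perp (v : V8) (hv : hg.orbSum v = 0) (x : V8) (hx : g x = x) : bV x v = 0 := by
  rw [← hg.bV_orbSum hx, hv, bV_zero_right]

theorem orbSum_move (v : V8) : hg.orbSum (g v + v) = 0 := by
  rw [map_add, Co1Type47.add_eq_zero]
  show g v + g (g v) + g (g (g v)) + g (g (g (g v))) + g (g (g (g (g v)))) = _
  rw [hg.five]
  show _ = v + g v + g (g v) + g (g (g v)) + g (g (g (g v)))
  abel

/-- The orbit of a singular moved vector is not totally isotropic. -/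
theorem orbit_false {w : V8} (hw : hg.orbSum w = 0) (hw0 : w ≠ 0) (h1 : bV w (g w) = 0)
    (k : bV w (g (g w)) = 0) : False := by
  classical
  have hrev : ∀ v, bV v (g (g (g v))) = bV v (g (g v)) ∧ bV v (g (g (g (g v)))) = bV v (g v) :=
    hg.rev
  have hperp : ∀ v, hg.orbSum v = 0 → ∀ x, g x = x → bV x v = 0 := hg.perp
  have hsum : ∀ v, hg.orbSum (g v + v) = 0 := hg.orbSum_move
  let ev : (Fin 5 → ZMod 2) →+ V8 :=
    { toFun := fun c => c 0 • w + c 1 • g w + c 2 • g (g w) + c 3 • g (g (g w)) + c 4 • g (g (g (g w)))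
      map_zero' := by simp
      map_add' := fun c d => by simp only [Pi.add_apply, add_smul]; abel }
  have hsm : ∀ (t : ZMod 2) (y : V8), g (t • y) = t • g y := fun t y => by
    rcases zmod_cases t with rfl | rfl <;> simp [hg.zero]
  have hev : ∀ c, g (ev c) = ev (fun i => c (i - 1)) := fun c => by
    show g (c 0 • w + c 1 • g w + c 2 • g (g w) + c 3 • g (g (g w)) + c 4 • g (g (g (g w)))) =
      c (0 - 1) • w + c (1 - 1) • g w + c (2 - 1) • g (g w) + c (3 - 1) • g (g (g w))
        + c (4 - 1) • g (g (g (g w)))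
    rw [show (0 : Fin 5) - 1 = 4 by decide, show (1 : Fin 5) - 1 = 0 by decide,
      show (2 : Fin 5) - 1 = 1 by decide, show (3 : Fin 5) - 1 = 2 by decide,
      show (4 : Fin 5) - 1 = 3 by decide]
    simp only [hg.add, hsm, hg.five]
    abel
  have hones : ev (fun _ => 1) = 0 := by
    show (1 : ZMod 2) • w + (1 : ZMod 2) • g w + _ + _ + _ = 0
    simp only [one_smul]
    exact hw
  have hker : ∀ c, ev c = 0 → c 4 = 0 → c = 0 := by
    intro c hc h4
    by_contra hne
    obtain ⟨a, ha⟩ := cyc_inverse c hne h4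
    have hz : ∀ (k : ZMod 2) (d : Fin 5 → ZMod 2), ev d = 0 → ev (k • d) = 0 := fun k d hd => by
      rcases zmod_cases k with rfl | rfl
      · rw [zero_smul, map_zero]
      · rw [one_smul, hd]
    let sh : (Fin 5 → ZMod 2) → Fin 5 → ZMod 2 := fun d i => d (i - 1)
    have k1 : ev (sh c) = 0 := by rw [← hev, hc, hg.zero]
    have k2 : ev (sh (sh c)) = 0 := by rw [← hev, k1, hg.zero]
    have k3 : ev (sh (sh (sh c))) = 0 := by rw [← hev, k2, hg.zero]
    have k4 : ev (sh (sh (sh (sh c)))) = 0 := by rw [← hev, k3, hg.zero]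
    have e : ev (cyc a c) = 0 := by
      show ev (a 0 • c + a 1 • sh c + a 2 • sh (sh c) + a 3 • sh (sh (sh c))
        + a 4 • sh (sh (sh (sh c)))) = 0
      simp only [map_add, hz _ _ hc, hz _ _ k1, hz _ _ k2, hz _ _ k3, hz _ _ k4, add_zero]
    have hd : ev (Pi.single 0 1) = w := by
      show _ • w + _ • g w + _ + _ + _ = w
      simp [Pi.single_apply]
    rcases ha with ha | ha <;> rw [ha] at e
    · exact hw0 (hd.symm.trans e)
    · rw [map_add, hones, add_zero, hd] at e
      exact hw0 e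
  have h0' : ∀ v, hg.orbSum v = 0 → hg.orbSum (g v) = 0 := fun v hv => by
    have := hsum v
    rwa [map_add, hv, add_zero] at this
  have hs0 : ∀ (t : ZMod 2) (y : V8), hg.orbSum y = 0 → hg.orbSum (t • y) = 0 := fun t y hy => by
    rcases zmod_cases t with rfl | rfl
    · rw [zero_smul, map_zero]
    · rw [one_smul, hy]
  have hw1' := h0' _ hw
  have hw2' := h0' _ hw1'
  have hw3' := h0' _ hw2'
  have hw4' := h0' _ hw3'
  have hall : ∀ d : Fin 5 → ZMod 2, hg.orbSum (d 0 • w + d 1 • g w + d 2 • g (g w)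
      + d 3 • g (g (g w)) + d 4 • g (g (g (g w)))) = 0 := fun d => by
    simp only [map_add, hs0 _ _ hw, hs0 _ _ hw1', hs0 _ _ hw2', hs0 _ _ hw3', hs0 _ _ hw4', add_zero]
  let emb4 : (Fin 4 → ZMod 2) → {v : V8 // hg.orbSum v = 0} := fun c =>
    ⟨ev (Fin.snoc c 0), hall (Fin.snoc c 0)⟩
  have hinj : Function.Injective emb4 := fun c d e => by
    have e' : ev (Fin.snoc c 0) = ev (Fin.snoc d 0) := congrArg Subtype.val e
    have := hker (Fin.snoc c 0 + Fin.snoc d 0) (by rw [map_add, e', add_self]) (by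
      rw [Pi.add_apply, show (4 : Fin 5) = Fin.last 4 from rfl, Fin.snoc_last, Fin.snoc_last, add_zero])
    funext i
    have := congrFun this i.castSucc
    rw [Pi.add_apply, Fin.snoc_castSucc, Fin.snoc_castSucc, Pi.zero_apply] at this
    revert this
    generalize c i = x
    generalize d i = y
    revert x y
    decide
  have hcard : Nat.card {v : V8 // hg.orbSum v = 0} = 16 := by
    have h1 := hg.orbSum.ker.card_mul_index
    rw [AddSubgroup.index_ker] at h1
    have h2 : hg.orbSum.range = hg.fixed := le_antisymm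
      (by rintro _ ⟨v, rfl⟩; exact hg.orbSum_fix v) (fun x (hx : g x = x) => ⟨x, by
        show x + g x + g (g x) + g (g (g x)) + g (g (g (g x))) = x
        simp only [hx, add_self, zero_add]⟩)
    rw [h2, show Nat.card ↥hg.fixed = 16 from hg.card, show Nat.card V8 = 256 from by simp] at h1
    show Nat.card ↥hg.orbSum.ker = 16
    omega
  have hsurj := ((Nat.bijective_iff_injective_and_card emb4).2 ⟨hinj, by rw [hcard]; simp⟩).2
  refine hw0 (bV_nondeg w fun v => ?_)
  have hperpev : ∀ d, bV w (ev d) = 0 := fun d => by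
    have hs' : ∀ (t : ZMod 2) (y : V8), bV w y = 0 → bV w (t • y) = 0 := fun t y hy => by
      rcases zmod_cases t with rfl | rfl
      · rw [zero_smul, bV_zero_right]
      · rw [one_smul, hy]
    show bV w (_ • w + _ • g w + _ • g (g w) + _ • g (g (g w)) + _ • g (g (g (g w)))) = 0
    simp only [bV_add_right, hs' _ _ (bV_self w), hs' _ _ h1, hs' _ _ k,
      hs' _ _ ((hrev w).1.trans k), hs' _ _ ((hrev w).2.trans h1), add_zero]
  obtain ⟨d, hd⟩ := hsurj ⟨v + hg.orbSum v, by
    rw [map_add, show hg.orbSum (hg.orbSum v) = hg.orbSum v from by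
      show hg.orbSum v + g (hg.orbSum v) + g (g (hg.orbSum v)) + g (g (g (hg.orbSum v)))
        + g (g (g (g (hg.orbSum v)))) = _
      simp only [hg.orbSum_fix, add_self, zero_add], add_self]⟩
  have e : bV w (v + hg.orbSum v) = 0 := by
    rw [← show ev (Fin.snoc d 0) = v + hg.orbSum v from congrArg Subtype.val hd]; exact hperpev _
  rwa [bV_add_right, bV_comm w (hg.orbSum v), hperp w hw _ (hg.orbSum_fix v), add_zero] at e

theorem moved_frame : ∃ w : V8, qV w = 0 ∧ hg.orbSum w = 0 ∧ bV w (g w) = 1 ∧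
    bV w (g (g w)) = 1 ∧ (∀ x, g x = x → bV x w = 0) := by
  classical
  have hrev := hg.rev
  have hperp := hg.perp
  have key : ∀ v, hg.orbSum v = 0 → qV v + bV v (g v) + bV v (g (g v)) = 0 := by
    intro v hv
    have e : qV (v + g v + g (g v) + g (g (g v)) + g (g (g (g v)))) = 0 := by
      rw [show v + g v + g (g v) + g (g (g v)) + g (g (g (g v))) = hg.orbSum v from rfl, hv, qV_zero]
    simp only [qV_add, bV_add_left, hg.iso] at e
    simp only [hg.bil] at e
    rw [(hrev v).1, (hrev v).2] at e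
    revert e
    generalize qV v = a
    generalize bV v (g v) = b
    generalize bV v (g (g v)) = c
    revert a b c
    decide
  obtain ⟨v₀, hv₀⟩ : ∃ v, g v ≠ v := by
    by_contra h
    push Not at h
    have := hg.card
    rw [Nat.card_congr (Equiv.subtypeUnivEquiv h)] at this
    simp at this
  have hsum := hg.orbSum_move
  have hfix : ∀ v, hg.orbSum v = 0 → g v = v → v = 0 := fun v hv e => by
    have : hg.orbSum v = v := by
      show v + g v + g (g v) + g (g (g v)) + g (g (g (g v))) = v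
      simp only [e, add_self, zero_add]
    rw [← this, hv]
  have hfix2 : ∀ v, hg.orbSum v = 0 → g (g v) = v → v = 0 := fun v hv e => hfix v hv (by
    conv_rhs => rw [← hg.five v, e, e])
  set m₀ := g v₀ + v₀ with hm₀
  have hm0 : m₀ ≠ 0 := fun e => hv₀ (Co1Type47.add_eq_zero.1 e)
  obtain ⟨w, hw, hw0, hqw⟩ : ∃ w, hg.orbSum w = 0 ∧ w ≠ 0 ∧ qV w = 0 := by
    rcases zmod_cases (qV m₀) with h | h
    · exact ⟨m₀, hsum v₀, hm0, h⟩
    have hg0 : ∀ v, hg.orbSum v = 0 → hg.orbSum (g v) = 0 := fun v hv => by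
      have := hsum v
      rwa [map_add, hv, add_zero] at this
    have k := key m₀ (hsum v₀)
    rw [h] at k
    rcases zmod_cases (bV m₀ (g m₀)) with h1 | h1
    · exact ⟨g m₀ + m₀, hsum m₀, fun e => hm0 (hfix _ (hsum v₀) (Co1Type47.add_eq_zero.1 e)),
        by rw [qV_add, hg.iso, bV_comm, h, h1]; decide⟩
    · rw [h1] at k
      rcases zmod_cases (bV m₀ (g (g m₀))) with h2 | h2
      · exact ⟨g (g m₀) + m₀, by rw [map_add, hg0 _ (hg0 _ (hsum v₀)), hsum v₀, add_zero],
          fun e => hm0 (hfix2 _ (hsum v₀) (Co1Type47.add_eq_zero.1 e)),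
          by rw [qV_add, hg.iso, hg.iso, bV_comm, h, h2]; decide⟩
      · rw [h2] at k
        exact absurd k (by decide)
  have k := key w hw
  rw [hqw, zero_add] at k
  rcases zmod_cases (bV w (g w)) with h1 | h1
  swap
  · rw [h1] at k
    exact ⟨w, hqw, hw, h1, by revert k; generalize bV w (g (g w)) = t; revert t; decide,
      hperp w hw⟩
  -- otherwise the orbit is totally singular and spans the moved space
  rw [h1, zero_add] at k
  exact (hg.orbit_false hw hw0 h1 k).elim

theorem exists_normal : ∃ h : Iso, ∀ v, h.map (g v) = f8 (h.map v) := by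
  classical
  obtain ⟨u, f, a, b, hu, hf, ha, hb, q1, q2, q3, q4, p1, p2, p3, p4, p5, p6⟩ := hg.fixed_frame
  obtain ⟨w, hqw, hsum, hw1, hw2, hperp⟩ := hg.moved_frame
  let v : Fin 8 → V8 := ![u, f, a, b, w, g w, g (g w), g (g (g w))]
  have hgram : ∀ i j, bV (v i) (v j) = bV (frame i) (frame j) := by
    have r3 : bV w (g (g (g w))) = 1 := by
      rw [← hg.bil, ← hg.bil (g w), hg.five, bV_comm, hw2]
    have hp : ∀ x, g x = x → bV x w = 0 ∧ bV x (g w) = 0 ∧ bV x (g (g w)) = 0 ∧
        bV x (g (g (g w))) = 0 := fun x hx => by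
      simp only [hg.bV_fix hx, hperp x hx, and_self]
    obtain ⟨c1, c2, c3, c4⟩ := hp u hu
    obtain ⟨d1, d2, d3, d4⟩ := hp f hf
    obtain ⟨i1, i2, i3, i4⟩ := hp a ha
    obtain ⟨j1, j2, j3, j4⟩ := hp b hb
    have k1 : bV (g w) (g (g w)) = 1 := by rw [hg.bil, hw1]
    have k2 : bV (g w) (g (g (g w))) = 1 := by rw [hg.bil, hw2]
    have k3 : bV (g (g w)) (g (g (g w))) = 1 := by rw [hg.bil, hg.bil, hw1]
    intro i j
    fin_cases i <;> fin_cases j <;>
      simp [v, frame, bV_self, bV_comm f u, bV_comm a u, bV_comm b u, bV_comm a f, bV_comm b f,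
        bV_comm b a, bV_comm (g w) w, bV_comm (g (g w)) w, bV_comm (g (g (g w))) w,
        bV_comm (g (g w)) (g w), bV_comm (g (g (g w))) (g w), bV_comm (g (g (g w))) (g (g w)),
        bV_comm w u, bV_comm (g w) u, bV_comm (g (g w)) u, bV_comm (g (g (g w))) u,
        bV_comm w f, bV_comm (g w) f, bV_comm (g (g w)) f, bV_comm (g (g (g w))) f,
        bV_comm w a, bV_comm (g w) a, bV_comm (g (g w)) a, bV_comm (g (g (g w))) a,
        bV_comm w b, bV_comm (g w) b, bV_comm (g (g w)) b, bV_comm (g (g (g w))) b,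
        p1, p2, p3, p4, p5, p6, c1, c2, c3, c4, d1, d2, d3, d4, i1, i2, i3, i4, j1, j2, j3, j4,
        hw1, hw2, r3, k1, k2, k3] <;> decide
  have hqd : ∀ i, qV (v i) = qV (frame i) := by
    intro i
    fin_cases i <;> simp [v, frame, hg.iso, q1, q2, q3, q4, hqw] <;> decide
  obtain ⟨h, hh⟩ := witt v frame (indep_of_gram v hgram) (indep_of_gram frame fun _ _ => rfl) hqd hgram
  have h0 := hh 0; have h1 := hh 1; have h2 := hh 2; have h3 := hh 3
  have h4 := hh 4; have h5 := hh 5; have h6 := hh 6; have h7 := hh 7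
  simp only [v, Matrix.cons_val_zero, Matrix.cons_val_one, Matrix.cons_val] at h0 h1 h2 h3 h4 h5 h6 h7
  have hA : ∀ i, h.map (g (v i)) = f8 (h.map (v i)) := by
    intro i
    rw [hh]
    fin_cases i <;>
      simp [v, frame, hu, hf, ha, hb, h0, h1, h2, h3, h5, h6, h7]
    any_goals decide
    rw [show g (g (g (g w))) = w + g w + g (g w) + g (g (g w)) from (Co1Type47.add_eq_zero.1 hsum).symm]
    simp only [h.map.map_add, h4, h5, h6, h7]
    decide
  refine ⟨h, fun x => ?_⟩
  obtain ⟨a₁, a₂, a₃, a₄, a₅, a₆, a₇, a₈, e⟩ := frame_span (h.map x)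
  rw [← hh 0, ← hh 1, ← hh 2, ← hh 3, ← hh 4, ← hh 5, ← hh 6, ← hh 7] at e
  have hs : ∀ (t : ZMod 2) (y : V8), h.map (t • y) = t • h.map y ∧ g (t • y) = t • g y ∧
      f8 (t • y) = t • f8 y := fun t y => by
    rcases zmod_cases t with rfl | rfl
    · simp [hg.zero]; decide
    · simp
  have ex : x = a₁ • v 0 + a₂ • v 1 + a₃ • v 2 + a₄ • v 3 + a₅ • v 4 + a₆ • v 5 + a₇ • v 6 + a₈ • v 7 := by
    apply h.map.injective
    rw [e]
    simp only [h.map.map_add, (hs _ _).1]
  rw [ex]
  simp only [hg.add, h.map.map_add, f8_add, (hs _ _).1, (hs _ _).2.1, (hs _ _).2.2, hA]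

end Five

end Cfsg.Agent.Lib.CoTypeB85
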