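import Cfsg.Agent.Lib.Co1Type47.Typed

/-!
The standard element of order 5 with a minus four-space of fixed vectors (written by helper85).
-/

set_option autoImplicit false
set_option synthInstance.maxSize 1000
set_option synthInstance.maxHeartbeats 200000

namespace Cfsg.Agent.Lib.CoTypeB85

open Co1Type47

/-- The standard element on `e₀^⊥/e₀`. -/
def f6 (w : W6) : W6 :=
  ((w.1.2 + w.2.1.1, w.1.1 + w.2.1.1),
    (w.2.1.1 + w.2.2.1, w.1.1 + w.1.2 + w.2.1.1 + w.2.1.2 + w.2.2.1),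
    (w.1.1 + w.1.2 + w.2.1.2 + w.2.2.1 + w.2.2.2, w.2.2.1))

/-- The standard element on `V8`. -/
def f8 (v : V8) : V8 := (v.1, v.2.1, f6 v.2.2)

/-- The moved four-space. -/
def InM (w : W6) : Prop := bW w (repA 1) = 0 ∧ bW w (repV 1) = 0

instance : DecidablePred InM := fun w => by unfold InM; infer_instance

/-- Its singular vectors. -/
def sM : Fin 5 → W6 :=
  ![((0, 0), (0, 0), (0, 1)), ((0, 0), (0, 0), (1, 0)), ((0, 0), (1, 1), (1, 1)),
    ((1, 1), (0, 1), (1, 1)), ((1, 1), (1, 0), (1, 1))]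

/-- The fixed four-space. -/
def InF (v : V8) : Prop := f8 v = v

instance : DecidablePred InF := fun v => by unfold InF; infer_instance

/-- Its singular vectors. -/
def sF : Fin 5 → V8 :=
  ![e₀, f₀, (1, 1, repA 1), (1, 1, repV 1), (1, 1, repA 1 + repV 1)]

theorem f6_add : ∀ u w, f6 (u + w) = f6 u + f6 w := by decide +kernel

theorem f8_add (u v : V8) : f8 (u + v) = f8 u + f8 v := by
  simp only [f8, Prod.fst_add, Prod.snd_add, f6_add, Prod.mk_add_mk]

theorem f6_iso : ∀ w, qW (f6 w) = qW w := by decide +kernel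

theorem f6_bW (u w : W6) : bW (f6 u) (f6 w) = bW u w := by
  have h := f6_iso (u + w)
  rw [f6_add, qW_add, qW_add, f6_iso, f6_iso] at h
  exact add_left_cancel h

theorem f8_iso : ∀ v, qV (f8 v) = qV v := by decide +kernel

theorem f8_five : ∀ v, f8 (f8 (f8 (f8 (f8 v)))) = v := by decide +kernel

theorem f6_five : ∀ v, f6 (f6 (f6 (f6 (f6 v)))) = v := by decide +kernel

theorem f6_T : f6 (repA 1) = repA 1 ∧ f6 (repV 1) = repV 1 := by decide

theorem f6_sM : ∀ i : Fin 5, f6 (sM i) = sM (i + 1) := by decide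

theorem sM_facts : ∀ i : Fin 5, InM (sM i) ∧ qW (sM i) = 0 ∧ sM i ≠ 0 := by decide

theorem sM_surj : ∀ w : W6, InM w → qW w = 0 → w ≠ 0 → ∃ i, sM i = w := by decide +kernel

theorem sM_inj : ∀ i j : Fin 5, sM i = sM j → i = j := by decide +kernel

theorem sM_bW : ∀ i j : Fin 5, bW (sM i) (sM j) = if i = j then 0 else 1 := by decide +kernel

theorem sM_sum : sM 0 + sM 1 + sM 2 + sM 3 + sM 4 = 0 := by decide

theorem inF_iff : ∀ v : V8, InF v ↔ ∀ i, bV v (emb (sM i)) = 0 := by decide +kernel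

theorem inF_iff_T : ∀ v : V8, InF v ↔
    (v.2.2 = 0 ∨ v.2.2 = repA 1 ∨ v.2.2 = repV 1 ∨ v.2.2 = repA 1 + repV 1) := by decide +kernel

theorem sF_facts : ∀ i : Fin 5, InF (sF i) ∧ qV (sF i) = 0 ∧ sF i ≠ 0 := by decide +kernel

theorem sF_surj : ∀ v : V8, InF v → qV v = 0 → v ≠ 0 → ∃ i, sF i = v := by decide +kernel

theorem sF_inj : ∀ i j : Fin 5, sF i = sF j → i = j := by decide +kernel

theorem sF_refl : ∀ i j : Fin 5, i ≠ j → qV (sF i + sF j) = 1 ∧
    (∀ k, refl (sF i + sF j) (sF k) = sF (Equiv.swap i j k)) ∧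
    ∀ k, refl (sF i + sF j) (emb (sM k)) = emb (sM k) := by decide +kernel

theorem sM_refl : ∀ i j : Fin 5, i ≠ j → qV (emb (sM i + sM j)) = 1 ∧
    (∀ k, refl (emb (sM i + sM j)) (emb (sM k)) = emb (sM (Equiv.swap i j k))) ∧
    ∀ k, refl (emb (sM i + sM j)) (sF k) = sF k := by decide +kernel

theorem sF_span : ∀ v : V8, InF v → ∃ a b c d : ZMod 2,
    v = a • sF 0 + b • sF 1 + c • sF 2 + d • sF 3 := by decide +kernel

theorem sM_span : ∀ w : W6, InM w → ∃ a b c d : ZMod 2,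
    w = a • sM 0 + b • sM 1 + c • sM 2 + d • sM 3 := by decide +kernel

/-- The `f6`-moved part. -/
def projM (w : W6) : W6 :=
  f6 w + f6 (f6 w) + f6 (f6 (f6 w)) + f6 (f6 (f6 (f6 w)))

theorem projM_facts : ∀ w : W6, InM (projM w) ∧ (InM w → projM w = w) ∧
    f6 (w + projM w) = w + projM w ∧ (f6 w = w → projM w = 0) := by decide +kernel

theorem projM_add (u w : W6) : projM (u + w) = projM u + projM w := by
  simp only [projM, f6_add]; abel

/-- A 3-cycle on the moved four-space. -/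
def a8 (v : V8) : V8 := refl (emb (sM 0 + sM 1)) (refl (emb (sM 1 + sM 2)) v)

/-- The doubling permutation of the moved singular vectors, fixing `e₀`. -/
def d8 (v : V8) : V8 :=
  refl (emb (sM 1 + sM 2)) (refl (emb (sM 2 + sM 4))
    (refl (emb (sM 4 + sM 3)) (refl (emb (repA 1)) v)))

theorem d8_e₀ : d8 e₀ = e₀ := by decide

theorem d8_f8 : ∀ v : V8, d8 (f8 v) = f8 (f8 (d8 v)) := by decide +kernel

theorem a8_facts : a8 e₀ = e₀ ∧ a8 f₀ = f₀ ∧ (∀ v, InF v → a8 v = v) ∧
    (∀ i : Fin 5, (a8 (emb (sM i))).2.2 = sM (![1, 2, 0, 3, 4] i)) := by decide +kernel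

/-- Linear maps commuting with `f6` are determined by one image. -/
theorem eq_of_comm {L L' : W6 → W6} (hL : ∀ u w, L (u + w) = L u + L w)
    (hL' : ∀ u w, L' (u + w) = L' u + L' w) (hc : ∀ w, L (f6 w) = f6 (L w))
    (hc' : ∀ w, L' (f6 w) = f6 (L' w)) (h : L (sM 0) = L' (sM 0)) {w : W6} (hw : InM w) :
    L w = L' w := by
  have h0 : L 0 = 0 := by
    have := hL 0 0; rw [add_zero] at this; exact left_eq_add.1 this
  have h0' : L' 0 = 0 := by
    have := hL' 0 0; rw [add_zero] at this; exact left_eq_add.1 this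
  have hs : ∀ (k : ZMod 2) (u : W6), L (k • u) = k • L u ∧ L' (k • u) = k • L' u := fun k u => by
    rcases zmod_cases k with rfl | rfl <;> simp [h0, h0']
  have step : ∀ i, L (sM i) = L' (sM i) → L (sM (i + 1)) = L' (sM (i + 1)) := fun i e => by
    rw [← f6_sM, hc, hc', e]
  have h1 := step 0 h
  have h2 := step _ h1
  have h3 := step _ h2
  obtain ⟨a, b, c, d, rfl⟩ := sM_span w hw
  simp only [hL, hL', (hs _ _).1, (hs _ _).2]
  rw [h, show L (sM 1) = L' (sM 1) from h1, show L (sM 2) = L' (sM 2) from h2,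
    show L (sM 3) = L' (sM 3) from h3]

end Cfsg.Agent.Lib.CoTypeB85
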