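import Cfsg.Agent.Lib.CoTypeB85.Normal

/-!
Fixed points in cosets under coprime action, and further facts about the standard element
(written by helper85).
-/

set_option autoImplicit false
set_option synthInstance.maxSize 1000
set_option synthInstance.maxHeartbeats 200000

namespace Cfsg.Agent.Lib.CoTypeB85

open Co1Type47

/-- A coset `R c` stable under `x ↦ a x b⁻¹` contains a fixed point, for coprime orders. -/
theorem exists_coset_fixed {G : Type*} [Group G] [Finite G] {p n : ℕ} [Fact p.Prime] (R : Subgroup G)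
    (a b c : G) (hnorm : ∀ r ∈ R, a * r * a⁻¹ ∈ R) (hc : a * c * b⁻¹ * c⁻¹ ∈ R)
    (ha : a ^ (p ^ n) = 1) (hb : b ^ (p ^ n) = 1) (hR : ¬ p ∣ Nat.card R) :
    ∃ r ∈ R, a * (r * c) = (r * c) * b := by
  classical
  let _ : Fintype ↥R := Fintype.ofFinite _
  let φ : ↥R → ↥R := fun r => ⟨a * r * c * b⁻¹ * c⁻¹, by
    have := mul_mem (hnorm r r.2) hc
    simpa [mul_assoc] using this⟩
  have hinj : Function.Injective φ := fun r r' h => by
    have h' := congrArg Subtype.val h
    simp only [φ] at h'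
    exact Subtype.ext (mul_left_cancel (mul_right_cancel (mul_right_cancel (mul_right_cancel h'))))
  let σ : Equiv.Perm ↥R := Equiv.ofBijective φ (Finite.injective_iff_bijective.1 hinj)
  have hpow : ∀ (k : ℕ) (r : ↥R), (((σ ^ k) r : ↥R) : G) = a ^ k * r * c * (b ^ k)⁻¹ * c⁻¹ := by
    intro k
    induction k with
    | zero => intro r; simp
    | succ k ih =>
      intro r
      rw [pow_succ', Equiv.Perm.mul_apply]
      show a * (((σ ^ k) r : ↥R) : G) * c * b⁻¹ * c⁻¹ = _
      rw [ih, pow_succ', pow_succ, mul_inv_rev]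
      group
  have hσ : σ ^ p ^ n = 1 := Equiv.ext fun r => Subtype.ext (by
    rw [hpow, ha, hb]; simp)
  obtain ⟨r, hr⟩ := Equiv.Perm.exists_fixed_point_of_prime (p := p)
    (by rwa [← Nat.card_eq_fintype_card]) hσ
  refine ⟨r, r.2, ?_⟩
  have e := congrArg Subtype.val hr
  have e' : a * (r : G) * c * b⁻¹ * c⁻¹ = r := e
  calc a * (r * c) = a * (r : G) * c * b⁻¹ * c⁻¹ * c * b := by group
    _ = _ := by rw [e']

theorem moved_mem : ∀ v : V8, (f8 v + v).1 = 0 ∧ (f8 v + v).2.1 = 0 ∧ InM (f8 v + v).2.2 := by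
  decide +kernel

theorem moved_surj : ∀ w : W6, InM w → ∃ u : W6, f6 u + u = w := by decide +kernel

theorem split8 : ∀ v : V8, InF (v + emb (projM v.2.2)) ∧ InM (projM v.2.2) ∧
    v = (v + emb (projM v.2.2)) + emb (projM v.2.2) := by decide +kernel

theorem card_inF : Nat.card {v : V8 // InF v} = 16 := by
  rw [Nat.card_eq_fintype_card]; decide +kernel

theorem emb_add (u w : W6) : emb (u + w) = emb u + emb w := by simp [emb]

theorem emb_f6 (w : W6) : emb (f6 w) = f8 (emb w) := rfl

theorem three_cycle_swaps : ∀ σ : Equiv.Perm (Fin 5), σ ^ 3 = 1 → σ ≠ 1 →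
    ∃ i j k : Fin 5, i ≠ j ∧ j ≠ k ∧ σ = Equiv.swap i j * Equiv.swap j k := by decide +kernel

/-- Additive maps agreeing on both summands agree. -/
theorem eq_of_split {g g' : V8 → V8} (hg : ∀ u v, g (u + v) = g u + g v)
    (hg' : ∀ u v, g' (u + v) = g' u + g' v) (hF : ∀ x, InF x → g x = g' x)
    (hM : ∀ w, InM w → g (emb w) = g' (emb w)) (v : V8) : g v = g' v := by
  obtain ⟨h1, h2, h3⟩ := split8 v
  rw [h3, hg, hg', hF _ h1, hM _ h2]

theorem eq_on_inF {g g' : V8 → V8} (hg : ∀ u v, g (u + v) = g u + g v)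
    (hg' : ∀ u v, g' (u + v) = g' u + g' v) (h : ∀ i, g (sF i) = g' (sF i)) {x : V8} (hx : InF x) :
    g x = g' x := by
  have h0 : g 0 = 0 := by have := hg 0 0; rw [add_zero] at this; exact left_eq_add.1 this
  have h0' : g' 0 = 0 := by have := hg' 0 0; rw [add_zero] at this; exact left_eq_add.1 this
  obtain ⟨a, b, c, d, rfl⟩ := sF_span x hx
  have hs : ∀ (k : ZMod 2) (u : V8), g (k • u) = k • g u ∧ g' (k • u) = k • g' u := fun k u => by
    rcases zmod_cases k with rfl | rfl <;> simp [h0, h0']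
  simp only [hg, hg', (hs _ _).1, (hs _ _).2, h]

theorem eq_on_inM {g g' : V8 → V8} (hg : ∀ u v, g (u + v) = g u + g v)
    (hg' : ∀ u v, g' (u + v) = g' u + g' v) (h : ∀ i, g (emb (sM i)) = g' (emb (sM i))) {w : W6}
    (hw : InM w) : g (emb w) = g' (emb w) := by
  have h0 : g 0 = 0 := by have := hg 0 0; rw [add_zero] at this; exact left_eq_add.1 this
  have h0' : g' 0 = 0 := by have := hg' 0 0; rw [add_zero] at this; exact left_eq_add.1 this
  obtain ⟨a, b, c, d, rfl⟩ := sM_span w hw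
  have hs : ∀ (k : ZMod 2) (u : V8), g (k • u) = k • g u ∧ g' (k • u) = k • g' u := fun k u => by
    rcases zmod_cases k with rfl | rfl <;> simp [h0, h0']
  have he : ∀ (k : ZMod 2) (u : W6), emb (k • u) = k • emb u := fun k u => by
    simp [emb]
  simp only [emb_add, he, hg, hg', (hs _ _).1, (hs _ _).2, h]

end Cfsg.Agent.Lib.CoTypeB85
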